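import Groth.Agent.TFLoc.Gor
import Groth.Agent.Pur21Len.Basic

/-!
# Lengths of quotients of lattices
-/

set_option autoImplicit false
universe u

open IsLocalRing

namespace Groth.Agent.TFLoc

variable {O : Type u} [CommRing O]

theorem lenQ_map {V W : Type u} [AddCommGroup V] [Module O V] [AddCommGroup W] [Module O W] (e : V ≃ₗ[O] W)
    (A B : Submodule O V) : lenQ (A.map e.toLinearMap) (B.map e.toLinearMap) = lenQ A B := by
  refine LinearEquiv.length_eq (Submodule.Quotient.equiv _ _ (e.submoduleMap B) ?_).symm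
  ext ⟨x, hx⟩
  simp only [Submodule.mem_map, Submodule.mem_comap, Submodule.coe_subtype]
  constructor
  · rintro ⟨⟨y, hy⟩, hyA, h⟩
    exact ⟨y, hyA, congrArg Subtype.val h⟩
  · rintro ⟨y, hyA, hyx⟩
    obtain ⟨z, hz, hzx⟩ := hx
    have : y = z := e.injective (hyx.trans hzx.symm)
    exact ⟨⟨y, this ▸ hz⟩, hyA, Subtype.ext hyx⟩

variable {K : Type u} [Field K] [Algebra O K] [IsDomain O] [IsFractionRing O K] [IsNoetherianRing O] [IsLocalRing O]

theorem lenQ_ne_top (hdim : ringKrullDim O = 1) {n : ℕ} {A B : Submodule O (Fin n → K)} (hA : IsLat A) (hB : IsLat B) :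
    lenQ A B ≠ ⊤ := by
  classical
  obtain ⟨s, hs⟩ := hB.1
  choose d hd0 hd using fun x : Fin n → K => exists_smul_mem hA.2 x
  let D : O := ∏ x ∈ s, d x
  have hD : D ≠ 0 := Finset.prod_ne_zero_iff.2 fun x _ => hd0 x
  have hmem : ∀ x ∈ B, D • x ∈ A := fun x hx => by
    rw [← hs] at hx
    induction hx using Submodule.span_induction with
    | mem y hy =>
      rw [show D = (∏ z ∈ s.erase y, d z) * d y from (Finset.prod_erase_mul s d hy).symm, mul_smul]
      exact Submodule.smul_mem _ _ (hd y)
    | zero => simp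
    | add a b _ _ ha hb => rw [smul_add]; exact add_mem ha hb
    | smul r a _ ha => rw [smul_comm]; exact Submodule.smul_mem _ r ha
  haveI : Module.Finite O B := Module.Finite.iff_fg.2 hB.1
  have hle : LinearMap.range (LinearMap.lsmul O B D) ≤ A.comap B.subtype := by
    rintro _ ⟨x, rfl⟩
    exact hmem x x.2
  exact ne_top_of_le_ne_top (Pur21Len.hasIndex_lsmul' hdim (mem_nonZeroDivisors_of_ne_zero hD) B).2
    (Module.length_le_of_surjective (Submodule.factor hle) (Submodule.factor_surjective hle))

omit [IsDomain O] [IsFractionRing O K] [IsNoetherianRing O] [IsLocalRing O] in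
theorem lenQ_pi {n : ℕ} (A B : Submodule O K) :
    lenQ (Submodule.pi Set.univ fun _ : Fin n => A) (Submodule.pi Set.univ fun _ : Fin n => B) = n * lenQ A B := by
  let P := Submodule.pi Set.univ fun _ : Fin n => B
  let f : P →ₗ[O] (Fin n → (B ⧸ A.comap B.subtype)) := LinearMap.pi fun i =>
    (A.comap B.subtype).mkQ ∘ₗ ((LinearMap.proj i).comp P.subtype).codRestrict B fun x => x.2 i (Set.mem_univ i)
  have hf : Function.Surjective f := fun y => by
    choose x hx using fun i => Submodule.Quotient.mk_surjective _ (y i)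
    exact ⟨⟨fun i => (x i : K), fun i _ => (x i).2⟩, funext fun i => hx i⟩
  have hker : LinearMap.ker f = (Submodule.pi Set.univ fun _ : Fin n => A).comap P.subtype := by
    ext x
    rw [LinearMap.mem_ker, funext_iff]
    exact forall_congr' fun i => ((Submodule.Quotient.mk_eq_zero (A.comap B.subtype)).trans
      ⟨fun h _ => h, fun h => h (Set.mem_univ i)⟩)
  unfold lenQ
  rw [← ((Submodule.quotEquivOfEq _ _ hker.symm).trans (f.quotKerEquivOfSurjective hf)).length_eq.symm,
    Module.length_pi]
  simp

end Groth.Agent.TFLoc
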