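import Groth.Agent.TFLoc.Basic

/-!
# Normal form of torsion-free modules
-/

set_option autoImplicit false
universe u

open IsLocalRing
open scoped TensorProduct

namespace Groth.Agent.TFLoc

variable {O : Type u} [CommRing O] [IsDomain O] {K : Type u} [Field K] [Algebra O K] [IsFractionRing O K]

/-- a torsion-free module of rank `n` is a full lattice of `K ^ n` -/
theorem exists_lattice {M : Type u} [AddCommGroup M] [Module O M] [Module.Finite O M] [NoZeroSMulDivisors O M]
    {n : ℕ} (hn : Module.finrank K (K ⊗[O] M) = n) :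
    ∃ L : Submodule O (Fin n → K), L.FG ∧ Submodule.span K (L : Set (Fin n → K)) = ⊤ ∧
      Nonempty (M ≃ₗ[O] L) := by
  classical
  haveI : Module.IsTorsionFree O M := inferInstance
  let ι : M →ₗ[O] K ⊗[O] M := TensorProduct.mk O K M 1
  haveI : IsLocalizedModule (nonZeroDivisors O) ι :=
    (isLocalizedModule_iff_isBaseChange (nonZeroDivisors O) K ι).2 (TensorProduct.isBaseChange O M K)
  have hι : Function.Injective ι := by
    rw [injective_iff_map_eq_zero]
    intro x hx
    obtain ⟨s, hs⟩ := (IsLocalizedModule.eq_zero_iff (nonZeroDivisors O) ι).mp hx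
    exact (smul_eq_zero.mp (show (s : O) • x = 0 from hs)).resolve_left (nonZeroDivisors.ne_zero s.2)
  let b := Module.finBasisOfFinrankEq K (K ⊗[O] M) hn
  let φ : M →ₗ[O] (Fin n → K) := (b.equivFun.restrictScalars O).toLinearMap ∘ₗ ι
  have hφ : Function.Injective φ := b.equivFun.injective.comp hι
  refine ⟨LinearMap.range φ, Module.Finite.fg_top.map φ |> (fun h => by rwa [Submodule.map_top] at h), ?_,
    ⟨LinearEquiv.ofInjective φ hφ⟩⟩
  rw [eq_top_iff]
  rintro x -
  obtain ⟨z, rfl⟩ := b.equivFun.surjective x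
  induction z using TensorProduct.induction_on with
  | zero => simp
  | tmul a m =>
    have e : b.equivFun (a ⊗ₜ[O] m) = a • φ m := by
      change _ = a • b.equivFun (ι m)
      rw [← map_smul]
      congr 1
      simp [ι, TensorProduct.smul_tmul']
    rw [e]
    exact Submodule.smul_mem _ a (Submodule.subset_span ⟨m, rfl⟩)
  | add u v hu hv => rw [map_add]; exact add_mem hu hv

variable [IsNoetherianRing O] [IsLocalRing O]

/-- the normal form: between `O ^ n` and `O~ ^ n` after a change of coordinates -/
theorem exists_normal_form [IsAlgClosed (ResidueField O)] (hdim : ringKrullDim O = 1)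
    (hfin : Module.Finite O (integralClosure O K)) {n : ℕ} (L : Submodule O (Fin n → K)) (hL : L.FG)
    (hspan : Submodule.span K (L : Set (Fin n → K)) = ⊤) :
    ∃ g : (Fin n → K) ≃ₗ[K] (Fin n → K), stdLat O K n ≤ L.map (g.toLinearMap.restrictScalars O) ∧
      L.map (g.toLinearMap.restrictScalars O) ≤ normLat O K n := by
  classical
  let C := integralClosure O K
  haveI := isPrincipalIdealRing_normalization (K := K) hdim hfin
  haveI : IsFractionRing C K := isFractionRing_normalization (O := O) (K := K)
  obtain ⟨s, rfl⟩ := hL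
  let N : Submodule C (Fin n → K) := Submodule.span C (s : Set (Fin n → K))
  haveI : Submodule.IsLattice K N := ⟨⟨s, rfl⟩, by
    rw [Submodule.span_span_of_tower, ← Submodule.span_span_of_tower O K (s : Set (Fin n → K)), hspan]⟩
  haveI : Module.Free C N := Submodule.IsLattice.free K N
  let b := Module.Free.chooseBasis C N
  let B := b.extendOfIsLattice K
  let e := Module.Basis.indexEquiv B (Pi.basisFun K (Fin n))
  let b' := b.reindex e
  let T : (Fin n → K) ≃ₗ[K] (Fin n → K) := (B.reindex e).equivFun
  -- coordinates of the generators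
  have hco : ∀ x, ∀ hx : x ∈ N, ∀ i, T x i = algebraMap C K (b'.repr ⟨x, hx⟩ i) := by
    intro x hx i
    have h1 : ∑ j, algebraMap C K (b'.repr ⟨x, hx⟩ j) • (B.reindex e) j = x := by
      have h2 := congrArg Subtype.val (b'.sum_repr ⟨x, hx⟩)
      simp only [Submodule.coe_sum, Submodule.coe_smul] at h2
      refine Eq.trans (Finset.sum_congr rfl fun j _ => ?_) h2
      rw [algebraMap_smul]
      simp [B, b']
    conv_lhs => rw [← h1]
    simp [T, map_sum, Finset.sum_apply, Finsupp.single_apply]
  let σ : Fin s.card → (Fin n → K) := fun l => (s.equivFin.symm l : Fin n → K)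
  have hσs : ∀ l, σ l ∈ (s : Set (Fin n → K)) := fun l => (s.equivFin.symm l).2
  have hσ : ∀ l, σ l ∈ N := fun l => Submodule.subset_span (hσs l)
  let G : Matrix (Fin n) (Fin s.card) C := Matrix.of fun i l => b'.repr ⟨σ l, hσ l⟩ i
  -- a right inverse
  have hrange : (Set.range σ : Set (Fin n → K)) = s := by
    ext x
    refine ⟨?_, fun hx => ⟨s.equivFin ⟨x, hx⟩, by simp [σ]⟩⟩
    rintro ⟨l, rfl⟩
    exact hσs l
  have hH : ∀ j : Fin n, ∃ c : Fin s.card → C, ∑ l, c l • σ l = (b' j : Fin n → K) := fun j => by
    refine (Submodule.mem_span_range_iff_exists_fun C).1 ?_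
    rw [hrange]
    exact (b' j).2
  choose H hH using hH
  have hGH : G * (Matrix.of fun l j => H j l) = 1 := by
    ext i j : 1
    have h1 : ∑ l, H j l • (⟨σ l, hσ l⟩ : N) = b' j := Subtype.ext (by simp [hH j])
    have h2 := congrArg (fun z => b'.repr z i) h1
    simp only [map_sum, map_smul, Finsupp.coe_finsetSum, Finset.sum_apply, Finsupp.smul_apply,
      smul_eq_mul, Module.Basis.repr_self] at h2
    rw [Matrix.mul_apply, Matrix.one_apply]
    simp only [Matrix.of_apply, G]
    rw [Finset.sum_congr rfl fun l _ => mul_comm _ (H j l), h2, Finsupp.single_apply]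
    simp only [eq_comm]
  obtain ⟨Λ, hΛ⟩ := exists_unit_det hdim hfin G _ hGH
  let U : Matrix (Fin n) (Fin n) C := G * Λ.map (algebraMap O C)
  obtain ⟨V, hVU, hUV⟩ : ∃ V, V * U = 1 ∧ U * V = 1 :=
    ⟨U⁻¹, Matrix.nonsing_inv_mul U hΛ, Matrix.mul_nonsing_inv U hΛ⟩
  let UK : Matrix (Fin n) (Fin n) K := U.map (algebraMap C K)
  let VK : Matrix (Fin n) (Fin n) K := V.map (algebraMap C K)
  let W : (Fin n → K) ≃ₗ[K] (Fin n → K) :=
    Matrix.toLin'OfInv (M := VK) (M' := UK)
      (by rw [← Matrix.map_mul, hVU, Matrix.map_one _ (map_zero _) (map_one _)])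
      (by rw [← Matrix.map_mul, hUV, Matrix.map_one _ (map_zero _) (map_one _)])
  refine ⟨T.trans W.symm, fun x hx => ?_, ?_⟩
  · have hcol : ∀ j : Fin n, (Pi.single j 1 : Fin n → K) ∈
        (Submodule.span O (s : Set (Fin n → K))).map ((T.trans W.symm).toLinearMap.restrictScalars O) := by
      intro j
      refine ⟨∑ l, Λ l j • σ l, sum_mem fun l _ => Submodule.smul_mem _ _
        (Submodule.subset_span (hσs l)), ?_⟩
      change W.symm (T (∑ l, Λ l j • σ l)) = _
      rw [LinearEquiv.symm_apply_eq]
      rw [show W (Pi.single j 1) = UK.mulVec (Pi.single j 1) from Matrix.toLin'_apply _ _,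
        Matrix.mulVec_single_one, map_sum]
      funext i
      simp only [Finset.sum_apply, Matrix.col_apply, UK, Matrix.map_apply, U, Matrix.mul_apply, map_sum, map_mul,
        G, Matrix.of_apply]
      refine Finset.sum_congr rfl fun l _ => ?_
      rw [← LinearEquiv.coe_toLinearMap, LinearMap.map_smul_of_tower]
      simp only [LinearEquiv.coe_toLinearMap, Pi.smul_apply]
      rw [hco (σ l) (hσ l) i, Algebra.smul_def, mul_comm, ← IsScalarTower.algebraMap_apply O C K]
    choose a ha using mem_stdLat.1 hx
    have e : x = ∑ j, a j • (Pi.single j 1 : Fin n → K) := by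
      funext i
      rw [Finset.sum_apply, Finset.sum_eq_single i (fun j _ hj => by simp [Pi.single_eq_of_ne (Ne.symm hj)]) (by simp)]
      simp [← Algebra.algebraMap_eq_smul_one, ha]
    rw [e]
    exact sum_mem fun j _ => Submodule.smul_mem _ _ (hcol j)
  · rintro _ ⟨x, hx, rfl⟩
    have hxN : x ∈ N := Submodule.span_le_restrictScalars O C _ hx
    refine mem_normLat.2 fun i => ?_
    change W.symm (T x) i ∈ integralClosure O K
    rw [show W.symm (T x) = VK.mulVec (T x) from Matrix.toLin'_apply _ _]
    simp only [Matrix.mulVec, dotProduct, VK, Matrix.map_apply, hco x hxN]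
    exact sum_mem fun j _ => mul_mem (V i j).2 (b'.repr ⟨x, hxN⟩ j).2

end Groth.Agent.TFLoc
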