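import Groth.Agent.TFLoc.Len

/-!
# Lattices stable under the normalisation, and representatives of given colength
-/

set_option autoImplicit false
universe u

open IsLocalRing

namespace Groth.Agent.TFLoc

variable {O : Type u} [CommRing O] {K : Type u} [Field K] [Algebra O K] [IsDomain O] [IsFractionRing O K]
  [IsNoetherianRing O] [IsLocalRing O]

local notation "C" => integralClosure O K

omit [IsDomain O] [IsFractionRing O K] [IsNoetherianRing O] in
/-- one step in a composition series -/
theorem exists_step [IsAlgClosed (ResidueField O)] [IsNoetherianRing C] [IsDedekindDomain C]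
    (hinj : Function.Injective (algebraMap O C)) {n : ℕ}
    {Z Z₀ : Submodule C (Fin n → K)} (hle : Z ≤ Z₀) (hne : Z ≠ Z₀)
    (htor : ∀ x : Fin n → K, ∃ d : O, d ≠ 0 ∧ d • x ∈ Z) :
    ∃ Z₁ : Submodule C (Fin n → K), Z ≤ Z₁ ∧ Z₁ ≤ Z₀ ∧ Z ≠ Z₁ ∧
      lenQ (Z.restrictScalars O) (Z₁.restrictScalars O) = 1 := by
  classical
  let Q := Z₀ ⧸ Z.comap Z₀.subtype
  obtain ⟨b, hb, hbZ⟩ := SetLike.not_le_iff_exists.1 fun h => hne (le_antisymm hle h)
  haveI : Nontrivial Q :=
    ⟨Submodule.Quotient.mk ⟨b, hb⟩, 0, fun e => hbZ ((Submodule.Quotient.mk_eq_zero (Z.comap Z₀.subtype)).1 e :)⟩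
  obtain ⟨p, hp⟩ := associatedPrimes.nonempty C Q
  obtain ⟨hpp, z, hz⟩ := isAssociatedPrime_iff.1 hp
  obtain ⟨⟨y, hy⟩, rfl⟩ := Submodule.Quotient.mk_surjective _ z
  have hmem : ∀ a : C, a ∈ p ↔ a • y ∈ Z := fun a => by
    rw [hz, Submodule.mem_colon_singleton, Submodule.mem_bot, ← Submodule.Quotient.mk_smul,
      Submodule.Quotient.mk_eq_zero]
    rfl
  have hyZ : y ∉ Z := fun h => hpp.ne_top ((Ideal.eq_top_iff_one p).2 ((hmem 1).2 (by rwa [one_smul])))
  obtain ⟨d, hd0, hd⟩ := htor y
  have hdp : algebraMap O C d ∈ p := (hmem _).2 (by rwa [algebraMap_smul])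
  haveI hP : p.IsMaximal := hpp.isMaximal fun e => hd0 (hinj (by
    rw [map_zero]; exact (Ideal.mem_bot).1 (e ▸ hdp)))
  refine ⟨Z ⊔ Submodule.span C {y}, le_sup_left, sup_le hle ((Submodule.span_singleton_le_iff_mem _ _).2 hy),
    fun e => hyZ (e ▸ Submodule.mem_sup_right (Submodule.mem_span_singleton_self y)), ?_⟩
  let Z₁ := ((Z ⊔ Submodule.span C {y}).restrictScalars O)
  let f : O →ₗ[O] Z₁ ⧸ (Z.restrictScalars O).comap Z₁.subtype :=
    LinearMap.toSpanSingleton O _ (Submodule.Quotient.mk ⟨y, Submodule.mem_sup_right (Submodule.mem_span_singleton_self y)⟩)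
  have hf : Function.Surjective f := fun q => by
    obtain ⟨⟨x, hx⟩, rfl⟩ := Submodule.Quotient.mk_surjective _ q
    obtain ⟨u, hu, w, hw, huw⟩ := Submodule.mem_sup.1 (show x ∈ Z ⊔ Submodule.span C {y} from hx)
    obtain ⟨c, rfl⟩ := Submodule.mem_span_singleton.1 hw
    obtain ⟨a, ha⟩ := surjective_residue_normalization p (Ideal.Quotient.mk p c)
    refine ⟨a, ?_⟩
    simp only [f, LinearMap.toSpanSingleton_apply]
    rw [← Submodule.Quotient.mk_smul, Submodule.Quotient.eq]
    change a • y - x ∈ Z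
    have h1 : algebraMap O C a - c ∈ p := Ideal.Quotient.eq.1 ha
    rw [← algebraMap_smul C a y, ← huw, show algebraMap O C a • y - (u + c • y) = (algebraMap O C a - c) • y - u by
      rw [sub_smul]; abel]
    exact sub_mem ((hmem _).1 h1) hu
  have hker : LinearMap.ker f = maximalIdeal O := by
    ext a
    rw [LinearMap.mem_ker]
    simp only [f, LinearMap.toSpanSingleton_apply]
    rw [← Submodule.Quotient.mk_smul, Submodule.Quotient.mk_eq_zero]
    change a • y ∈ Z ↔ _
    rw [← algebraMap_smul C a y, ← hmem, ← comap_maximal (K := K) p]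
    rfl
  have e := ((Submodule.quotEquivOfEq _ _ hker.symm).trans (f.quotKerEquivOfSurjective hf)).length_eq
  rw [lenQ, ← e, Module.length_eq_one_iff]
  exact isSimpleModule_iff_isCoatom.2 (Ideal.isMaximal_def.1 (maximalIdeal.isMaximal O))

omit [IsDomain O] [IsFractionRing O K] [IsNoetherianRing O] [IsLocalRing O] in
theorem restrictScalars_map {n : ℕ} (Z : Submodule C (Fin n → K)) (g : (Fin n → K) ≃ₗ[K] (Fin n → K)) :
    (Z.map (g.toLinearMap.restrictScalars C)).restrictScalars O
      = (Z.restrictScalars O).map (g.toLinearMap.restrictScalars O) := rfl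

/-- intermediate stable lattices of every colength -/
theorem exists_between [IsAlgClosed (ResidueField O)] (hdim : ringKrullDim O = 1) (hfin : Module.Finite O C)
    {n : ℕ} {Z₀ : Submodule C (Fin n → K)} (hZ₀ : IsLat (Z₀.restrictScalars O)) :
    ∀ (e : ℕ) (Z : Submodule C (Fin n → K)), IsLat (Z.restrictScalars O) → Z ≤ Z₀ →
      (e : ℕ∞) ≤ lenQ (Z.restrictScalars O) (Z₀.restrictScalars O) →
      ∃ Z'' : Submodule C (Fin n → K), Z ≤ Z'' ∧ Z'' ≤ Z₀ ∧ IsLat (Z''.restrictScalars O) ∧
        lenQ (Z''.restrictScalars O) (Z₀.restrictScalars O) = e := by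
  classical
  haveI := hfin
  haveI : IsNoetherianRing C := IsNoetherianRing.of_finite O C
  haveI := isDedekindDomain_normalization (K := K) hdim hfin
  have hinj : Function.Injective (algebraMap O C) := fun a b h =>
    IsFractionRing.injective O K (congrArg Subtype.val h)
  intro e Z hZ hle he
  obtain ⟨l, hl⟩ := WithTop.ne_top_iff_exists.1 (lenQ_ne_top hdim hZ hZ₀)
  replace hl : lenQ (Z.restrictScalars O) (Z₀.restrictScalars O) = (l : ℕ∞) := hl.symm
  rw [hl, ENat.natCast_le_natCast] at he
  induction l generalizing Z with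
  | zero =>
    obtain rfl : e = 0 := by omega
    exact ⟨Z, le_rfl, hle, hZ, hl⟩
  | succ l ih =>
    rcases eq_or_lt_of_le he with rfl | hlt
    · exact ⟨Z, le_rfl, hle, hZ, hl⟩
    have hne : Z ≠ Z₀ := by
      rintro rfl
      have h0 : lenQ (Z.restrictScalars O) (Z.restrictScalars O) = 0 := by
        rw [lenQ, Module.length_eq_zero_iff, Submodule.Quotient.subsingleton_iff]
        exact eq_top_iff.2 fun x _ => x.2
      rw [h0] at hl
      exact Nat.succ_ne_zero l (by exact_mod_cast hl.symm)
    obtain ⟨Z₁, h₁, h₁₀, hne₁, hlen⟩ := exists_step hinj hle hne fun x => exists_smul_mem hZ.2 x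
    have hZ₁ : IsLat (Z₁.restrictScalars O) := isLat_of_between hZ hZ₀ h₁ h₁₀
    obtain ⟨l₁, hl₁⟩ := WithTop.ne_top_iff_exists.1 (lenQ_ne_top hdim hZ₁ hZ₀)
    have hadd : lenQ (Z.restrictScalars O) (Z₀.restrictScalars O)
        = lenQ (Z.restrictScalars O) (Z₁.restrictScalars O) + lenQ (Z₁.restrictScalars O) (Z₀.restrictScalars O) :=
      lenQ_add h₁ h₁₀
    replace hl₁ : lenQ (Z₁.restrictScalars O) (Z₀.restrictScalars O) = (l₁ : ℕ∞) := hl₁.symm
    rw [hlen, hl, hl₁] at hadd
    have h' : l + 1 = 1 + l₁ := by exact_mod_cast hadd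
    obtain rfl : l₁ = l := by omega
    obtain ⟨Z'', ha, hb, hc, hd⟩ := ih Z₁ hZ₁ h₁₀ (by omega) hl₁
    exact ⟨Z'', h₁.trans ha, hb, hc, hd⟩

omit [IsDomain O] [IsFractionRing O K] [IsNoetherianRing O] [IsLocalRing O] in
/-- the stable lattice spanned by the unit vectors -/
theorem span_single_eq {n : ℕ} :
    (Submodule.pi Set.univ fun _ : Fin n => (1 : Submodule C K)).restrictScalars O
      = normLat O K n := by
  ext x
  simp only [Submodule.restrictScalars_mem, Submodule.mem_pi, Set.mem_univ, forall_const, Submodule.mem_one, Subalgebra.mem_toSubmodule]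
  exact forall_congr' fun i => ⟨fun ⟨y, hy⟩ => hy ▸ y.2, fun h => ⟨⟨x i, h⟩, rfl⟩⟩

/-- representatives of given colength over the conductor -/
theorem exists_colength_form [LocCoh.IsGorensteinLocalRing O] [IsAlgClosed (ResidueField O)]
    (hdim : ringKrullDim O = 1) (hfin : Module.Finite O C) {n : ℕ} {L : Submodule O (Fin n → K)} (hL : IsLat L) :
    ∃ M' : Submodule O (Fin n → K), condLat O K n ≤ M' ∧ M' ≤ normLat O K n ∧ Nonempty (L ≃ₗ[O] M') ∧
      lenQ (condLat O K n) M' = lenQ (condLat O K n) (stdLat O K n) := by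
  classical
  haveI := hasInjectiveDimensionLT_one' (O := O) (K := K) hdim
  have hone : (1 : Submodule O K) ≠ ⊥ := fun h =>
    one_ne_zero ((Submodule.mem_bot O).1 (h ▸ one_le_one' (O := O) (K := K)))
  have honefg : (1 : Submodule O K).FG := Submodule.one_eq_span (R := O) (A := K) ▸ Submodule.fg_span_singleton _
  set ω : Submodule O K := 1
  obtain ⟨g, hstd, hnorm⟩ := exists_normal_form hdim hfin L hL.1 hL.2
  set M₁ := L.map (g.toLinearMap.restrictScalars O) with hM₁def
  have hS := isLat_stdLat (O := O) (K := K) n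
  have hN := isLat_normLat (O := O) (K := K) hfin n
  have hM₁ : IsLat M₁ := isLat_of_between hS hN hstd hnorm
  set D := dlat ω M₁ with hDdef
  have hD : IsLat D := isLat_dlat ω hone honefg hM₁
  have hDS : D ≤ stdLat O K n := (dlat_anti ω hstd).trans (dlat_stdLat n).le
  obtain ⟨e, he⟩ := WithTop.ne_top_iff_exists.1 (lenQ_ne_top hdim hS hM₁)
  replace he : lenQ (stdLat O K n) M₁ = (e : ℕ∞) := he.symm
  have heD : lenQ D (stdLat O K n) = (e : ℕ∞) := by
    have h1 := lenQ_dlat hdim ω hone honefg hS hM₁ hstd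
    rwa [dlat_stdLat, he] at h1
  -- the stable lattice spanned by the dual
  obtain ⟨h, hh1, hh2⟩ := exists_normal_form hdim hfin D hD.1 hD.2
  let Nn : Submodule C (Fin n → K) := Submodule.pi Set.univ fun _ : Fin n => (1 : Submodule C K)
  have hNn : Nn.restrictScalars O = normLat O K n := span_single_eq
  let Z : Submodule C (Fin n → K) := Nn.map (h.symm.toLinearMap.restrictScalars C)
  let XS := (stdLat O K n).map ((h.symm.restrictScalars O).toLinearMap)
  have hXS : XS ≤ D := by
    rintro _ ⟨x, hx, rfl⟩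
    obtain ⟨y, hy, hyx⟩ := hh1 hx
    rw [show (h.symm.restrictScalars O).toLinearMap x = y from h.symm_apply_eq.2 hyx.symm]
    exact hy
  have hDZ : D ≤ Z.restrictScalars O := fun x hx =>
    ⟨h x, hNn.ge (hh2 ⟨x, hx, rfl⟩), h.symm_apply_apply x⟩
  have hZN : Z ≤ Nn := by
    rintro _ ⟨x, hx, rfl⟩
    have hx' : x ∈ normLat O K n := hNn ▸ hx
    have hx1 : x = ∑ i, x i • (Pi.single i 1 : Fin n → K) :=
      funext fun j => by simp [Finset.sum_apply, Pi.single_apply]
    change h.symm x ∈ Nn.restrictScalars O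
    rw [hNn, hx1, map_sum, mem_normLat]
    intro j
    rw [Finset.sum_apply]
    refine sum_mem fun i _ => ?_
    rw [map_smul, Pi.smul_apply, smul_eq_mul]
    exact mul_mem (mem_normLat.1 hx' i)
      (mem_normLat.1 (stdLat_le_normLat n (hDS (hXS ⟨_, single_mem_stdLat i, rfl⟩))) j)
  have hZ : IsLat (Z.restrictScalars O) := isLat_of_between hD hN hDZ (fun x hx => hNn.le (hZN hx))
  have hlenZ : (e : ℕ∞) ≤ lenQ (Z.restrictScalars O) (normLat O K n) := by
    have hXSl : IsLat XS := by
      refine ⟨hS.1.map _, eq_top_iff.2 fun z _ => ?_⟩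
      obtain ⟨d, hd0, hd⟩ := exists_smul_mem_stdLat (O := O) (h z)
      have hz : d • z ∈ XS := ⟨d • h z, hd, by simp⟩
      have hd' : algebraMap O K d ≠ 0 := (map_ne_zero_iff _ (IsFractionRing.injective O K)).2 hd0
      rw [show z = (algebraMap O K d)⁻¹ • (d • z) by rw [← algebraMap_smul K d z, inv_smul_smul₀ hd']]
      exact Submodule.smul_mem _ _ (Submodule.subset_span hz)
    have h1 := lenQ_add (A := XS) (hXS.trans hDS) (stdLat_le_normLat n)
    have h2 := lenQ_add (A := XS) (hXS.trans hDZ) (fun x hx => hNn.le (hZN hx) : Z.restrictScalars O ≤ normLat O K n)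
    have h3 : lenQ XS (Z.restrictScalars O) = lenQ (stdLat O K n) (normLat O K n) := by
      rw [restrictScalars_map, hNn]
      exact lenQ_map (h.symm.restrictScalars O) _ _
    rw [h3, h1, add_comm] at h2
    have h4 := WithTop.add_left_cancel (lenQ_ne_top hdim hS hN) h2
    rw [← h4, lenQ_add hXS hDS, heD]
    exact le_add_self
  obtain ⟨Z'', hZ'', hZ''N, hZ''l, hlen⟩ := exists_between hdim hfin (Z₀ := Nn) (hNn ▸ hN) e Z hZ hZN (hNn ▸ hlenZ)
  -- a basis of the stable lattice
  haveI := isPrincipalIdealRing_normalization (K := K) hdim hfin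
  haveI : IsFractionRing C K := isFractionRing_normalization (O := O) (K := K)
  haveI : Submodule.IsLattice K Z'' := ⟨by
    obtain ⟨s, hs⟩ := hZ''l.1
    exact ⟨s, le_antisymm (Submodule.span_le.2 fun x hx => hs.le (Submodule.subset_span hx))
      fun x hx => Submodule.span_le_restrictScalars O C _ (hs.ge hx)⟩, hZ''l.2⟩
  haveI : Module.Free C Z'' := Submodule.IsLattice.free K Z''
  let b := Module.Free.chooseBasis C Z''
  let B := b.extendOfIsLattice K
  let b' := b.reindex (Module.Basis.indexEquiv B (Pi.basisFun K (Fin n)))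
  let Y : Matrix (Fin n) (Fin n) K := Matrix.of fun i j => (b' j : Fin n → K) i
  have hYu : IsUnit Y := by
    rw [← Matrix.linearIndependent_cols_iff_isUnit]
    have hli : LinearIndependent C fun j => (b' j : Fin n → K) :=
      b'.linearIndependent.map' Z''.subtype (Submodule.ker_subtype _)
    exact (LinearIndependent.iff_fractionRing C K).1 hli
  have hYu' : IsUnit (Matrix.transpose Y).det := by
    rw [Matrix.det_transpose]; exact (Matrix.isUnit_iff_isUnit_det Y).1 hYu
  let T : (Fin n → K) ≃ₗ[K] (Fin n → K) := Matrix.toLinearEquiv' (Matrix.transpose Y) (Matrix.invertibleOfIsUnitDet _ hYu')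
  have hT : ∀ x i, T x i = dotProduct (b' i : Fin n → K) x := fun x i => by
    change (Matrix.toLin' (Matrix.transpose Y)) x i = _
    rw [Matrix.toLin'_apply]
    rfl
  refine ⟨M₁.map (T.restrictScalars O).toLinearMap, ?_, ?_, ⟨((g.restrictScalars O).submoduleMap L).trans
    ((T.restrictScalars O).submoduleMap M₁)⟩, ?_⟩
  · -- contains the conductor
    intro c hc
    refine ⟨T.symm c, ?_, T.apply_symm_apply c⟩
    rw [← dlat_dlat hdim ω hone honefg hM₁]
    intro y hy
    obtain ⟨a, ha⟩ := (Submodule.mem_span_range_iff_exists_fun C).1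
      (show y ∈ Submodule.span C (Set.range fun j => (b' j : Fin n → K)) by
        rw [show (fun j => (b' j : Fin n → K)) = Z''.subtype ∘ b' from rfl, Set.range_comp, ← Submodule.map_span,
          b'.span_eq, Submodule.map_top, Submodule.range_subtype]
        exact hZ'' (hDZ hy))
    rw [← ha, sum_dotProduct]
    refine sum_mem fun j _ => ?_
    rw [show (a j • (b' j : Fin n → K)) = (a j : K) • (b' j : Fin n → K) from rfl, smul_dotProduct, ← hT,
      T.apply_symm_apply, smul_eq_mul]
    rw [← dlat_normLat] at hc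
    have h1 := hc (Pi.single j (a j : K)) (mem_normLat.2 fun i => by
      rcases eq_or_ne i j with rfl | h <;> simp [*, zero_mem])
    simpa [ω, Submodule.mem_one] using h1
  · rintro _ ⟨x, hx, rfl⟩
    refine mem_normLat.2 fun i => ?_
    change T x i ∈ C
    rw [hT]
    refine sum_mem fun l _ => mul_mem (mem_normLat.1 (hNn.le (hZ''N (b' i).2)) l) (mem_normLat.1 (hnorm hx) l)
  · -- the colength
    set P := dlat ω (Z''.restrictScalars O) with hP
    have hPT : condLat O K n = P.map (T.restrictScalars O).toLinearMap := by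
      ext c
      rw [← dlat_normLat]
      constructor
      · intro hc
        refine ⟨T.symm c, fun y hy => ?_, T.apply_symm_apply c⟩
        have hrepr := congrArg Subtype.val (b'.sum_repr ⟨y, hy⟩)
        simp only [Submodule.coe_sum, Submodule.coe_smul] at hrepr
        rw [← hrepr, sum_dotProduct]
        refine sum_mem fun j _ => ?_
        rw [show (b'.repr ⟨y, hy⟩ j • (b' j : Fin n → K)) = ((b'.repr ⟨y, hy⟩ j : C) : K) • (b' j : Fin n → K) from rfl,
          smul_dotProduct, ← hT, T.apply_symm_apply, smul_eq_mul]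
        have h1 := hc (Pi.single j ((b'.repr ⟨y, hy⟩ j : C) : K)) (mem_normLat.2 fun i => by
          rcases eq_or_ne i j with rfl | h <;> simp [*, zero_mem])
        simpa [ω, Submodule.mem_one] using h1
      · rintro ⟨x, hx, rfl⟩ z hz
        refine sum_mem fun j _ => ?_
        change z j * T x j ∈ ω
        rw [hT, ← smul_eq_mul, ← smul_dotProduct]
        exact hx _ (Z''.smul_mem ⟨z j, mem_normLat.1 hz j⟩ (b' j).2)
    have hPl : IsLat P := isLat_dlat ω hone honefg hZ''l
    have hPM : P ≤ M₁ := (dlat_anti ω (hDZ.trans hZ'')).trans (dlat_dlat hdim ω hone honefg hM₁).le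
    have hCP : condLat O K n ≤ P := (dlat_normLat n).ge.trans (dlat_anti ω (fun x hx => hNn.le (hZ''N hx)))
    have hCS : condLat O K n ≤ stdLat O K n :=
      (dlat_normLat n).ge.trans ((dlat_anti ω (stdLat_le_normLat n)).trans (dlat_stdLat n).le)
    have h1 := lenQ_add hCP hPM
    have h2 := lenQ_add hCS hstd
    have h3 : lenQ (condLat O K n) P = e := by
      rw [hP, ← dlat_normLat, lenQ_dlat hdim ω hone honefg hZ''l hN (fun x hx => hNn.le (hZ''N hx))]
      rw [hNn] at hlen
      exact hlen
    rw [h1, h3, he, add_comm] at h2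
    rw [← WithTop.add_right_cancel (ENat.natCast_ne_top e) h2]
    conv_lhs => rw [hPT]
    exact lenQ_map (T.restrictScalars O) _ _

end Groth.Agent.TFLoc
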