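import Groth.Agent.TFLoc.Normal

/-!
# Maps into a module of injective dimension at most one
-/

set_option autoImplicit false
universe u

open CategoryTheory Abelian

namespace Groth.Agent.TFLoc

variable {O : Type u} [CommRing O] [IsDomain O] {K : Type u} [Field K] [Algebra O K] [IsFractionRing O K]

theorem exists_injective_free (K : Type u) [Field K] [Algebra O K] [IsFractionRing O K]
    (M : Type u) [AddCommGroup M] [Module O M] [Module.Finite O M] [NoZeroSMulDivisors O M] :
    ∃ (n : ℕ) (j : M →ₗ[O] (Fin n → O)), Function.Injective j := by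
  classical
  obtain ⟨L, hL, -, ⟨e⟩⟩ := exists_lattice (K := K) (M := M) (n := Module.finrank K (TensorProduct O K M)) rfl
  set n := Module.finrank K (TensorProduct O K M)
  obtain ⟨s, rfl⟩ := hL
  have hfin : (s : Set (Fin n → K)).Finite := s.finite_toSet
  choose d hd0 hd using fun x : Fin n → K => exists_smul_mem_stdLat (O := O) x
  let D : O := ∏ x ∈ s, d x
  have hD : D ≠ 0 := Finset.prod_ne_zero_iff.2 fun x _ => hd0 x
  have hmem : ∀ x ∈ Submodule.span O (s : Set (Fin n → K)), D • x ∈ stdLat O K n := by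
    intro x hx
    induction hx using Submodule.span_induction with
    | mem y hy =>
      rw [show D = (∏ z ∈ s.erase y, d z) * d y from (Finset.prod_erase_mul s d hy).symm, mul_smul]
      exact Submodule.smul_mem _ _ (hd y)
    | zero => simp
    | add a b _ _ ha hb => rw [smul_add]; exact add_mem ha hb
    | smul r a _ ha => rw [smul_comm]; exact Submodule.smul_mem _ r ha
  let ι : (Fin n → O) →ₗ[O] (Fin n → K) := LinearMap.pi fun i => Algebra.linearMap O K ∘ₗ LinearMap.proj i
  have hι : Function.Injective ι := fun a b h => funext fun i =>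
    IsFractionRing.injective O K (congrFun h i)
  have hstd : ∀ x ∈ stdLat O K n, x ∈ LinearMap.range ι := fun x hx => by
    choose a ha using mem_stdLat.1 hx
    exact ⟨a, funext ha⟩
  let f : M →ₗ[O] LinearMap.range ι :=
    LinearMap.codRestrict _ (D • ((Submodule.span O (s : Set (Fin n → K))).subtype ∘ₗ e.toLinearMap))
      fun x => hstd _ (hmem _ (e x).2)
  refine ⟨n, (LinearEquiv.ofInjective ι hι).symm.toLinearMap ∘ₗ f, ?_⟩
  refine (LinearEquiv.ofInjective ι hι).symm.injective.comp fun x y h => e.injective (Subtype.ext ?_)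
  have h' : D • ((e x : _) : Fin n → K) = D • ((e y : _) : Fin n → K) := congrArg Subtype.val h
  funext i
  have := congrFun h' i
  simp only [Pi.smul_apply, Algebra.smul_def] at this
  exact mul_left_cancel₀ ((map_ne_zero_iff _ (IsFractionRing.injective O K)).2 hD) this

variable [IsNoetherianRing O] (W : Type u) [AddCommGroup W] [Module O W]

theorem subsingleton_ext (K : Type u) [Field K] [Algebra O K] [IsFractionRing O K]
    [HasInjectiveDimensionLT (ModuleCat.of O W) 2] (M : Type u) [AddCommGroup M] [Module O M] [Module.Finite O M]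
    [NoZeroSMulDivisors O M] (i : ℕ) (hi : 1 ≤ i) :
    Subsingleton (Ext (ModuleCat.of O M) (ModuleCat.of O W) i) := by
  refine subsingleton_of_forall_eq 0 fun x => ?_
  rcases Nat.lt_or_ge i 2 with hi2 | hi2
  · obtain ⟨n, j, hj⟩ := exists_injective_free (O := O) K M
    have hS : (ModuleCat.shortComplexOfCompEqZero j (LinearMap.range j).mkQ
        (LinearMap.range_mkQ_comp j)).ShortExact :=
      ModuleCat.shortComplex_shortExact _ (LinearMap.exact_map_mkQ_range j) hj (Submodule.mkQ_surjective _)
    obtain ⟨x₂, rfl⟩ := Ext.contravariant_sequence_exact₁ hS (ModuleCat.of O W) x (n₁ := 1 + i) rfl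
      (Ext.eq_zero_of_hasInjectiveDimensionLT _ 2 (by omega))
    haveI : CategoryTheory.Projective (ModuleCat.of O (Fin n → O)) :=
      ModuleCat.projective_of_free (Pi.basisFun O (Fin n))
    obtain ⟨i, rfl⟩ := Nat.exists_eq_add_of_le' hi
    rw [Ext.eq_zero_of_projective x₂, Ext.comp_zero]
  · exact Ext.eq_zero_of_hasInjectiveDimensionLT _ 2 hi2

/-- maps extend from submodules with torsion-free quotient -/
theorem exists_extend (K : Type u) [Field K] [Algebra O K] [IsFractionRing O K]
    [HasInjectiveDimensionLT (ModuleCat.of O W) 2] {Q : Type u} [AddCommGroup Q] [Module O Q] [Module.Finite O Q]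
    (P : Submodule O Q) (htf : ∀ (a : O) (q : Q), a ≠ 0 → a • q ∈ P → q ∈ P) (f : P →ₗ[O] W) :
    ∃ g : Q →ₗ[O] W, g ∘ₗ P.subtype = f := by
  haveI : NoZeroSMulDivisors O (Q ⧸ P) := ⟨fun {a x} h => by
    obtain ⟨q, rfl⟩ := Submodule.Quotient.mk_surjective P x
    rcases eq_or_ne a 0 with ha | ha
    · exact Or.inl ha
    · rw [← Submodule.Quotient.mk_smul, Submodule.Quotient.mk_eq_zero] at h
      exact Or.inr ((Submodule.Quotient.mk_eq_zero P).2 (htf a q ha h))⟩
  have hcomp : P.mkQ ∘ₗ P.subtype = 0 := LinearMap.ext fun x => (Submodule.Quotient.mk_eq_zero P).2 x.2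
  have hS : (ModuleCat.shortComplexOfCompEqZero P.subtype P.mkQ hcomp).ShortExact :=
    ModuleCat.shortComplex_shortExact _ (LinearMap.exact_subtype_mkQ P) Subtype.val_injective (Submodule.mkQ_surjective _)
  obtain ⟨x₂, hx₂⟩ := Ext.contravariant_sequence_exact₁ hS (ModuleCat.of O W) (Ext.mk₀ (ModuleCat.ofHom f))
    (n₁ := 1) rfl ((subsingleton_ext W K (Q ⧸ P) 1 le_rfl).elim _ _)
  obtain ⟨g, rfl⟩ := Ext.mk₀_bijective _ _ |>.2 x₂
  rw [Ext.mk₀_comp_mk₀] at hx₂
  exact ⟨g.hom, congrArg ModuleCat.Hom.hom ((Ext.mk₀_bijective _ _).1 hx₂)⟩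

end Groth.Agent.TFLoc
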