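import Groth.Agent.TFLoc.DualMore

/-!
# Duality for `Ext` groups of torsion-free modules
-/

set_option autoImplicit false
universe u

open IsLocalRing CategoryTheory Abelian

namespace Groth.Agent.TFLoc.ExtDual

variable {O : Type u} [CommRing O]

/-- transport of `Ext` along isomorphisms -/
noncomputable def extCongr {X X' Y Y' : ModuleCat.{u} O} (e : X ≅ X') (e' : Y ≅ Y') (i : ℕ) :
    Ext X Y i ≃+ Ext X' Y' i where
  toFun x := (Ext.mk₀ e.inv).comp (x.comp (Ext.mk₀ e'.hom) (add_zero i)) (zero_add i)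
  invFun x := (Ext.mk₀ e.hom).comp (x.comp (Ext.mk₀ e'.inv) (add_zero i)) (zero_add i)
  left_inv x := by
    simp [Ext.comp_assoc_of_second_deg_zero, Ext.comp_assoc_of_third_deg_zero, Ext.mk₀_comp_mk₀_assoc, Ext.mk₀_comp_mk₀]
  right_inv x := by
    simp [Ext.comp_assoc_of_second_deg_zero, Ext.comp_assoc_of_third_deg_zero, Ext.mk₀_comp_mk₀_assoc, Ext.mk₀_comp_mk₀]
  map_add' x y := by simp

/-- two surjections with the same kernel have isomorphic targets -/
theorem addEquiv_of_surjective {H E₁ E₂ : Type*} [AddCommGroup H] [AddCommGroup E₁] [AddCommGroup E₂]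
    (f : H →+ E₁) (g : H →+ E₂) (hf : Function.Surjective f) (hg : Function.Surjective g)
    (h : ∀ x, f x = 0 ↔ g x = 0) : Nonempty (E₁ ≃+ E₂) :=
  ⟨((QuotientAddGroup.quotientKerEquivOfSurjective f hf).symm.trans
    (QuotientAddGroup.quotientAddEquivOfEq (show f.ker = g.ker from AddSubgroup.ext fun x => h x))).trans
      (QuotientAddGroup.quotientKerEquivOfSurjective g hg)⟩

theorem subsingleton_ext_pi {X W : ModuleCat.{u} O} {i n : ℕ} (h : Subsingleton (Ext X W i)) :
    Subsingleton (Ext X (ModuleCat.of O (Fin n → W)) i) := by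
  classical
  refine subsingleton_of_forall_eq 0 fun x => ?_
  let p : Fin n → (ModuleCat.of O (Fin n → W) ⟶ W) := fun j => ModuleCat.ofHom (LinearMap.proj j)
  let q : Fin n → (W ⟶ ModuleCat.of O (Fin n → W)) := fun j => ModuleCat.ofHom (LinearMap.single O (fun _ => (W : Type u)) j)
  have hid : ∑ j, p j ≫ q j = 𝟙 _ := by
    apply ModuleCat.hom_ext
    rw [ModuleCat.hom_sum]
    refine LinearMap.ext fun v => funext fun j => ?_
    simp [p, q, Finset.sum_apply, Pi.single_apply]
  rw [← Ext.comp_mk₀_id x, ← hid, Ext.mk₀_sum, Ext.comp_sum]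
  refine Finset.sum_eq_zero fun j _ => ?_
  rw [← Ext.mk₀_comp_mk₀, ← Ext.comp_assoc_of_third_deg_zero, h.elim (x.comp (Ext.mk₀ (p j)) (add_zero i)) 0,
    Ext.zero_comp]

variable {K : Type u} [Field K] [Algebra O K] (ω : Submodule O K)

/-- the `ω`-dual -/
abbrev D (M : Type u) [AddCommGroup M] [Module O M] : Type u := M →ₗ[O] ω

variable [IsDomain O] [IsFractionRing O K]

theorem smul_eq_zero_omega {a : O} {w : ω} (h : a • w = 0) : a = 0 ∨ w = 0 := by
  have h' : a • (w : K) = 0 := congrArg Subtype.val h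
  rw [Algebra.smul_def, mul_eq_zero, map_eq_zero_iff _ (IsFractionRing.injective O K)] at h'
  exact h'.imp id Subtype.ext

theorem noZeroSMulDivisors_D (M : Type u) [AddCommGroup M] [Module O M] : NoZeroSMulDivisors O (D ω M) :=
  ⟨fun {a φ} h => by
    by_cases ha : a = 0
    · exact Or.inl ha
    · exact Or.inr (LinearMap.ext fun x => (smul_eq_zero_omega ω (LinearMap.congr_fun h x)).resolve_left ha)⟩

variable [IsNoetherianRing O] (hωfg : ω.FG)

include hωfg in
omit [IsDomain O] [IsFractionRing O K] in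
theorem finite_D (M : Type u) [AddCommGroup M] [Module O M] [Module.Finite O M] : Module.Finite O (D ω M) := by
  haveI : Module.Finite O ω := Module.Finite.iff_fg.2 hωfg
  obtain ⟨n, s, hs⟩ := Module.Finite.exists_fin' O M
  let f : D ω M →ₗ[O] (Fin n → ω) := LinearMap.pi fun i => LinearMap.applyₗ (R := O) (s (Pi.single i 1))
  refine Module.Finite.of_injective f fun a b h => ?_
  refine LinearMap.ext fun x => ?_
  obtain ⟨v, rfl⟩ := hs x
  rw [pi_eq_sum_univ' v, map_sum, map_sum, map_sum]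
  refine Finset.sum_congr rfl fun i _ => ?_
  rw [map_smul, map_smul, map_smul]
  exact congrArg (v i • ·) (congrFun h i)

variable [IsLocalRing O] (hdim : ringKrullDim O = 1) (hω0 : ω ≠ ⊥) [HasInjectiveDimensionLT (ModuleCat.of O ω) 2]

include hωfg hdim hω0 in
/-- biduality -/
theorem eval_bijective (M : Type u) [AddCommGroup M] [Module O M] [Module.Finite O M] [NoZeroSMulDivisors O M] :
    Function.Bijective (LinearMap.applyₗ (R := O) : M →ₗ[O] D ω M →ₗ[O] ω) := by
  obtain ⟨L, hL, hspan, ⟨e⟩⟩ := exists_lattice (K := K) (M := M) (n := Module.finrank K (TensorProduct O K M)) rfl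
  have hLat : IsLat L := ⟨hL, hspan⟩
  have hD := isLat_dlat ω hω0 hωfg hLat
  have hDD := dlat_dlat hdim ω hω0 hωfg hLat
  let h₁ := LinearEquiv.ofBijective _ (dlatHom_bijective ω hspan)
  let h₂ := LinearEquiv.ofBijective _ (dlatHom_bijective ω hD.2)
  let e₁ : D ω M ≃ₗ[O] dlat ω L := (LinearEquiv.congrLeft ω O e).trans h₁.symm
  let Φ : M ≃ₗ[O] (D ω M →ₗ[O] ω) :=
    ((e.trans (LinearEquiv.ofEq _ _ hDD.symm)).trans h₂).trans (LinearEquiv.congrLeft ω O e₁.symm)
  have hΦ : (LinearMap.applyₗ (R := O) : M →ₗ[O] D ω M →ₗ[O] ω) = Φ.toLinearMap := by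
    refine LinearMap.ext fun x => LinearMap.ext fun φ => Subtype.ext ?_
    obtain ⟨y, rfl⟩ := e₁.symm.surjective φ
    change ((e₁.symm y) x : K) = ((h₂ (LinearEquiv.ofEq L (dlat ω (dlat ω L)) hDD.symm (e x))) (e₁ (e₁.symm y)) : K)
    rw [LinearEquiv.apply_symm_apply]
    exact dotProduct_comm (e x).1 y.1
  rw [hΦ]
  exact Φ.bijective

include hωfg hdim hω0 in
/-- transposition is bijective -/
theorem transpose_bijective (M N : Type u) [AddCommGroup M] [Module O M] [Module.Finite O M] [NoZeroSMulDivisors O M]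
    [AddCommGroup N] [Module O N] [Module.Finite O N] [NoZeroSMulDivisors O N] :
    Function.Bijective (fun f : M →ₗ[O] N => (LinearMap.lcomp O ω f : D ω N →ₗ[O] D ω M)) := by
  refine ⟨fun f g h => LinearMap.ext fun x => (eval_bijective ω hωfg hdim hω0 N).1
    (LinearMap.ext fun φ => LinearMap.congr_fun (LinearMap.congr_fun h φ) x), fun g => ?_⟩
  let eN := LinearEquiv.ofBijective _ (eval_bijective ω hωfg hdim hω0 N)
  let f : M →ₗ[O] N := eN.symm.toLinearMap ∘ₗ (LinearMap.lcomp O ω g) ∘ₗ (LinearMap.applyₗ (R := O))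
  refine ⟨f, LinearMap.ext fun φ => LinearMap.ext fun x => ?_⟩
  change φ (f x) = g φ x
  have h1 := LinearMap.congr_fun (eN.apply_symm_apply ((LinearMap.lcomp O ω g) (LinearMap.applyₗ (R := O) x))) φ
  exact h1

include hωfg hdim hω0 in
/-- `Ext^i(M,N) ≅ Ext^i(N*,M*)` -/
theorem main : ∀ (i : ℕ) (M N : Type u) [AddCommGroup M] [Module O M] [Module.Finite O M] [NoZeroSMulDivisors O M]
    [AddCommGroup N] [Module O N] [Module.Finite O N] [NoZeroSMulDivisors O N],
    Nonempty (Ext (ModuleCat.of O M) (ModuleCat.of O N) i ≃+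
      Ext (ModuleCat.of O (D ω N)) (ModuleCat.of O (D ω M)) i) := by
  intro i
  induction i using Nat.strong_induction_on with
  | _ i ih =>
  intro M N _ _ _ _ _ _ _ _
  -- degree zero
  have hzero : ∀ (M' N' : Type u) [AddCommGroup M'] [Module O M'] [Module.Finite O M'] [NoZeroSMulDivisors O M']
      [AddCommGroup N'] [Module O N'] [Module.Finite O N'] [NoZeroSMulDivisors O N'],
      ∃ T : Ext (ModuleCat.of O M') (ModuleCat.of O N') 0 ≃+
        Ext (ModuleCat.of O (D ω N')) (ModuleCat.of O (D ω M')) 0,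
        ∀ f : M' →ₗ[O] N', T (Ext.mk₀ (ModuleCat.ofHom f)) = Ext.mk₀ (ModuleCat.ofHom (LinearMap.lcomp O ω f)) := by
    intro M' N' _ _ _ _ _ _ _ _
    let τ : (ModuleCat.of O M' ⟶ ModuleCat.of O N') →+ (ModuleCat.of O (D ω N') ⟶ ModuleCat.of O (D ω M')) :=
      AddMonoidHom.mk' (fun f => ModuleCat.ofHom (LinearMap.lcomp O ω f.hom))
        fun f g => ModuleCat.hom_ext (LinearMap.ext fun φ => LinearMap.ext fun x => map_add φ (f.hom x) (g.hom x))
    have hτ : Function.Bijective τ := ⟨fun f g h => ModuleCat.hom_ext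
      ((transpose_bijective ω hωfg hdim hω0 M' N').1 (congrArg ModuleCat.Hom.hom h)), fun g => by
        obtain ⟨f, hf⟩ := (transpose_bijective ω hωfg hdim hω0 M' N').2 g.hom
        exact ⟨ModuleCat.ofHom f, ModuleCat.hom_ext hf⟩⟩
    refine ⟨(Ext.addEquiv₀.trans (AddEquiv.ofBijective τ hτ)).trans Ext.addEquiv₀.symm, fun f => ?_⟩
    have h1 : Ext.addEquiv₀ (Ext.mk₀ (ModuleCat.ofHom f)) = ModuleCat.ofHom f := Ext.addEquiv₀.apply_symm_apply _
    change Ext.addEquiv₀.symm (τ (Ext.addEquiv₀ (Ext.mk₀ (ModuleCat.ofHom f)))) = _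
    rw [h1]
    rfl
  rcases i with _ | i
  · exact ⟨(hzero M N).choose⟩
  -- a free cover
  obtain ⟨n, s, hs⟩ := Module.Finite.exists_fin' O M
  let P := LinearMap.ker s
  haveI : Module.Finite O P := Module.Finite.of_injective P.subtype Subtype.val_injective
  haveI := noZeroSMulDivisors_D ω M
  haveI := noZeroSMulDivisors_D ω N
  haveI := finite_D ω hωfg M
  haveI := finite_D ω hωfg N
  haveI hP : NoZeroSMulDivisors O P := ⟨fun {a x} h => (smul_eq_zero.1 (congrArg Subtype.val h : a • (x : Fin n → O) = 0)).imp id Subtype.ext⟩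
  haveI := noZeroSMulDivisors_D ω P
  haveI := finite_D ω hωfg P
  have hc : s ∘ₗ P.subtype = 0 := LinearMap.ext fun x => x.2
  have hS : (ModuleCat.shortComplexOfCompEqZero P.subtype s hc).ShortExact :=
    ModuleCat.shortComplex_shortExact _ (LinearMap.exact_subtype_ker_map s) Subtype.val_injective hs
  haveI : CategoryTheory.Projective (ModuleCat.of O (Fin n → O)) := ModuleCat.projective_of_free (Pi.basisFun O (Fin n))
  -- the dual sequence
  let sD : D ω M →ₗ[O] D ω (Fin n → O) := LinearMap.lcomp O ω s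
  let ιD : D ω (Fin n → O) →ₗ[O] D ω P := LinearMap.lcomp O ω P.subtype
  have hcD : ιD ∘ₗ sD = 0 := LinearMap.ext fun φ => LinearMap.ext fun x => by
    change φ (s x) = 0
    rw [show s x = 0 from x.2, map_zero]
  have hSD : (ModuleCat.shortComplexOfCompEqZero (R := O) (M := D ω M) (N := D ω (Fin n → O)) (L := D ω P) sD ιD hcD).ShortExact := by
    refine ModuleCat.shortComplex_shortExact _ (fun φ => ⟨fun hφ => ?_, ?_⟩) (fun a b h => ?_) fun f => ?_
    · have hker : LinearMap.ker s ≤ LinearMap.ker φ := fun x hx => LinearMap.congr_fun hφ ⟨x, hx⟩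
      let ψ : M →ₗ[O] ω := ((LinearMap.ker s).liftQ φ hker) ∘ₗ (s.quotKerEquivOfSurjective hs).symm.toLinearMap
      refine ⟨ψ, LinearMap.ext fun x => ?_⟩
      change ψ (s x) = φ x
      have h2 : (s.quotKerEquivOfSurjective hs).symm (s x) = Submodule.Quotient.mk x :=
        (LinearEquiv.symm_apply_eq _).2 rfl
      change (LinearMap.ker s).liftQ φ hker ((s.quotKerEquivOfSurjective hs).symm (s x)) = φ x
      rw [h2]
      rfl
    · rintro ⟨ψ, rfl⟩
      exact LinearMap.congr_fun hcD ψ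
    · refine LinearMap.ext fun m => ?_
      obtain ⟨v, rfl⟩ := hs m
      exact LinearMap.congr_fun h v
    · exact exists_extend ω K P (fun a q ha haq => by
        have h1 : a • s q = 0 := by rw [← map_smul]; exact haq
        exact (smul_eq_zero.1 h1).resolve_left ha) f
  -- the middle term is acyclic
  have hacyc : ∀ (X : Type u) [AddCommGroup X] [Module O X] [Module.Finite O X] [NoZeroSMulDivisors O X] (j : ℕ),
      1 ≤ j → Subsingleton (Ext (ModuleCat.of O X) (ModuleCat.of O (D ω (Fin n → O))) j) := by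
    intro X _ _ _ _ j hj
    have h1 := subsingleton_ext_pi (n := n) (subsingleton_ext (O := O) (↥ω) K X j hj)
    exact (extCongr (Iso.refl (ModuleCat.of O X))
      ((Pi.basisFun O (Fin n)).constr O).toModuleIso j).symm.toEquiv.subsingleton
  have hproj : ∀ (Y : ModuleCat.{u} O) (j : ℕ) (x : Ext (ModuleCat.of O (Fin n → O)) Y (j + 1)), x = 0 :=
    fun Y j x => Ext.eq_zero_of_projective x
  rcases i with _ | i
  · -- degree one
    obtain ⟨T, hT⟩ := hzero P N
    let δ := hS.extClass.precomp (ModuleCat.of O N) (a := 0) (b := 1) rfl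
    let δ' := (hSD.extClass.postcomp (ModuleCat.of O (D ω N)) (a := 0) (b := 1) rfl).comp T.toAddMonoidHom
    refine addEquiv_of_surjective δ δ' (fun x => ?_) (fun x => ?_) fun x => ?_
    · exact Ext.contravariant_sequence_exact₃ hS _ x (hproj _ 0 _) rfl
    · obtain ⟨y, hy⟩ := Ext.covariant_sequence_exact₁ (ModuleCat.of O (D ω N)) hSD x
        ((hacyc (D ω N) 1 le_rfl).elim _ _) rfl
      exact ⟨T.symm y, by
        change (T (T.symm y)).comp hSD.extClass rfl = x
        rw [T.apply_symm_apply]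
        exact hy⟩
    · obtain ⟨f, rfl⟩ := (Ext.mk₀_bijective _ _).2 x
      constructor
      · intro hx
        obtain ⟨g, hg⟩ := Ext.contravariant_sequence_exact₁ hS (ModuleCat.of O N) (Ext.mk₀ f) (n₁ := 1) rfl hx
        obtain ⟨g, rfl⟩ := (Ext.mk₀_bijective _ _).2 g
        rw [Ext.mk₀_comp_mk₀] at hg
        change (T (Ext.mk₀ f)).comp hSD.extClass rfl = 0
        rw [← hg, show (ModuleCat.shortComplexOfCompEqZero P.subtype s hc).f ≫ g = ModuleCat.ofHom (g.hom ∘ₗ P.subtype) from rfl,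
          hT (g.hom ∘ₗ P.subtype)]
        let g₂ : ModuleCat.of O (D ω N) ⟶
            (ModuleCat.shortComplexOfCompEqZero (R := O) (M := D ω M) (N := D ω (Fin n → O)) (L := D ω P) sD ιD hcD).X₂ :=
          ModuleCat.ofHom (LinearMap.lcomp O ω g.hom)
        change (Ext.mk₀ (g₂ ≫ (ModuleCat.shortComplexOfCompEqZero (R := O) (M := D ω M) (N := D ω (Fin n → O)) (L := D ω P) sD ιD hcD).g)).comp hSD.extClass rfl = 0
        rw [← Ext.mk₀_comp_mk₀, Ext.comp_assoc_of_second_deg_zero]
        rw [hSD.comp_extClass]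
        exact Ext.comp_zero _ _ _ _ _
      · intro hx
        obtain ⟨g, hg⟩ := Ext.covariant_sequence_exact₃ (ModuleCat.of O (D ω N)) hSD (T (Ext.mk₀ f)) (n₁ := 1) rfl hx
        obtain ⟨g, rfl⟩ := (Ext.mk₀_bijective _ _).2 g
        obtain ⟨g', hg'⟩ := (transpose_bijective ω hωfg hdim hω0 (Fin n → O) N).2 g.hom
        have hf : f = (ModuleCat.shortComplexOfCompEqZero P.subtype s hc).f ≫ ModuleCat.ofHom g' := by
          refine (Ext.mk₀_bijective _ _).1 (T.injective ?_)
          refine Eq.trans ?_ (hT (g' ∘ₗ P.subtype)).symm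
          rw [Ext.mk₀_comp_mk₀] at hg
          refine hg.symm.trans ?_
          congr 1
          refine ModuleCat.hom_ext (LinearMap.ext fun φ => LinearMap.ext fun x => ?_)
          have h3 := LinearMap.congr_fun (LinearMap.congr_fun hg' φ) (x : Fin n → O)
          exact h3.symm
        change hS.extClass.comp (Ext.mk₀ f) rfl = 0
        rw [hf, ← Ext.mk₀_comp_mk₀, ← Ext.comp_assoc_of_second_deg_zero, hS.extClass_comp]
        simp
  · -- higher degrees
    obtain ⟨E⟩ := ih (i + 1) (by omega) P N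
    let δ := hS.extClass.precomp (ModuleCat.of O N) (a := i + 1) (b := i + 1 + 1) (add_comm 1 (i + 1))
    let δ' := (hSD.extClass.postcomp (ModuleCat.of O (D ω N)) (a := i + 1) (b := i + 1 + 1) rfl)
    have hδ : Function.Bijective δ := by
      refine ⟨(injective_iff_map_eq_zero _).2 fun x hx => ?_, fun x => ?_⟩
      · obtain ⟨y, hy⟩ := Ext.contravariant_sequence_exact₁ hS (ModuleCat.of O N) x (add_comm 1 (i + 1)) hx
        rw [← hy, hproj _ i y, Ext.comp_zero]
      · exact Ext.contravariant_sequence_exact₃ hS _ x (hproj _ (i + 1) _) (add_comm 1 (i + 1))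
    have hδ' : Function.Bijective δ' := by
      refine ⟨(injective_iff_map_eq_zero _).2 fun x hx => ?_, fun x => ?_⟩
      · obtain ⟨y, hy⟩ := Ext.covariant_sequence_exact₃ (ModuleCat.of O (D ω N)) hSD x rfl hx
        rw [← hy, (hacyc (D ω N) (i + 1) (by omega)).elim y 0, Ext.zero_comp]
      · exact Ext.covariant_sequence_exact₁ _ hSD x ((hacyc (D ω N) (i + 1 + 1) (by omega)).elim _ _) rfl
    exact ⟨((AddEquiv.ofBijective δ hδ).symm.trans E).trans (AddEquiv.ofBijective δ' hδ')⟩

end Groth.Agent.TFLoc.ExtDual
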