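import Groth.Agent.TFLoc.Len
import Groth.Agent.TFSemigroup.PSeries

/-!
# Duality of lattices in `k[[t]]`
-/

set_option autoImplicit false
universe u

open PowerSeries CategoryTheory

namespace Groth.Agent.TFLoc.PS

open Groth.Agent.TFSemigroup.PSeries

theorem lenQ_self {O : Type u} [CommRing O] {V : Type u} [AddCommGroup V] [Module O V] (B : Submodule O V) :
    lenQ B B = 0 := by
  rw [lenQ, Module.length_eq_zero_iff]
  exact Submodule.Quotient.subsingleton_iff.2 (eq_top_iff.2 fun x _ => x.2)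

theorem lenQ_map_injective {O : Type u} [CommRing O] {V W : Type u} [AddCommGroup V] [Module O V] [AddCommGroup W]
    [Module O W] (f : V →ₗ[O] W) (hf : Function.Injective f) (A B : Submodule O V) :
    lenQ (A.map f) (B.map f) = lenQ A B := by
  refine LinearEquiv.length_eq (Submodule.Quotient.equiv _ _ (Submodule.equivMapOfInjective f hf B) ?_).symm
  ext ⟨x, hx⟩
  simp only [Submodule.mem_map, Submodule.mem_comap, Submodule.coe_subtype]
  constructor
  · rintro ⟨⟨y, hy⟩, hyA, h⟩
    exact ⟨y, hyA, congrArg Subtype.val h⟩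
  · rintro ⟨y, hyA, hyx⟩
    obtain ⟨z, hz, hzx⟩ := hx
    have : y = z := hf (hyx.trans hzx.symm)
    exact ⟨⟨y, this ▸ hz⟩, hyA, Subtype.ext hyx⟩

theorem lenQ_eq_one {O : Type u} [CommRing O] [IsLocalRing O] {V : Type u} [AddCommGroup V] [Module O V]
    {A B : Submodule O V} (x : V) (hx : x ∈ B) (hgen : ∀ y ∈ B, ∃ a : O, y - a • x ∈ A) (hx' : x ∉ A)
    (hm : ∀ a ∈ IsLocalRing.maximalIdeal O, a • x ∈ A) : lenQ A B = 1 := by
  let q : O →ₗ[O] B ⧸ A.comap B.subtype := LinearMap.toSpanSingleton O _ (Submodule.Quotient.mk ⟨x, hx⟩)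
  have hq : Function.Surjective q := fun z => by
    obtain ⟨⟨y, hy⟩, rfl⟩ := Submodule.Quotient.mk_surjective _ z
    obtain ⟨a, ha⟩ := hgen y hy
    refine ⟨a, ?_⟩
    simp only [q, LinearMap.toSpanSingleton_apply]
    rw [← Submodule.Quotient.mk_smul, eq_comm, Submodule.Quotient.eq]
    exact ha
  have hker : LinearMap.ker q = IsLocalRing.maximalIdeal O := by
    refine le_antisymm (IsLocalRing.le_maximalIdeal fun h => hx' ?_) fun a ha => ?_
    · have h1 : (1 : O) ∈ LinearMap.ker q := h ▸ Submodule.mem_top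
      rw [LinearMap.mem_ker] at h1
      simp only [q, LinearMap.toSpanSingleton_apply, one_smul] at h1
      exact (Submodule.Quotient.mk_eq_zero (A.comap B.subtype)).1 h1
    · rw [LinearMap.mem_ker]
      simp only [q, LinearMap.toSpanSingleton_apply]
      rw [← Submodule.Quotient.mk_smul, Submodule.Quotient.mk_eq_zero]
      exact hm a ha
  rw [lenQ, ← ((Submodule.quotEquivOfEq _ _ hker.symm).trans (q.quotKerEquivOfSurjective hq)).length_eq,
    Module.length_eq_one_iff]
  exact isSimpleModule_iff_isCoatom.2 (Ideal.isMaximal_def.1 (IsLocalRing.maximalIdeal.isMaximal O))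

theorem hid_map {O : Type u} [CommRing O] {V W : Type u} [AddCommGroup V] [Module O V] [AddCommGroup W]
    [Module O W] (f : V →ₗ[O] W) (hf : Function.Injective f) (S : Submodule O V)
    (h : HasInjectiveDimensionLT (ModuleCat.of O S) 2) : HasInjectiveDimensionLT (ModuleCat.of O (S.map f)) 2 := by
  haveI := h
  exact hasInjectiveDimensionLT_of_iso (Submodule.equivMapOfInjective f hf S).toModuleIso 2

variable {k : Type u} [Field k] {A : Subalgebra k (PowerSeries k)}

/-- an element of `A` is a unit iff its constant coefficient is nonzero -/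
theorem isUnit_iff (hA : Module.Finite A (PowerSeries k)) (a : A) :
    IsUnit a ↔ constantCoeff (a : PowerSeries k) ≠ 0 := by
  rw [← isUnit_iff_ne_zero, ← PowerSeries.isUnit_iff_constantCoeff]
  refine ⟨fun h => h.map A.val, fun h => ?_⟩
  haveI := hA
  haveI : Algebra.IsIntegral A (PowerSeries k) := Algebra.IsIntegral.of_finite A _
  haveI : FaithfulSMul A (PowerSeries k) := (faithfulSMul_iff_algebraMap_injective A _).2 Subtype.val_injective
  exact IsUnit.of_map (algebraMap A (PowerSeries k)) a h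

theorem isLocalRing (hA : Module.Finite A (PowerSeries k)) : IsLocalRing A :=
  IsLocalRing.of_nonunits_add fun a b ha hb => by
    rw [mem_nonunits_iff, isUnit_iff hA, not_not] at ha hb ⊢
    simp [ha, hb]

theorem exists_constant (a : A) : ∃ r : k, constantCoeff ((a - algebraMap k A r : A) : PowerSeries k) = 0 :=
  ⟨constantCoeff (a : PowerSeries k), by
    show constantCoeff ((a : PowerSeries k) - algebraMap k (PowerSeries k) _) = 0
    rw [map_sub, sub_eq_zero]
    exact (constantCoeff_C _).symm⟩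

variable {c : ℕ} (hc : ∀ f : PowerSeries k, X ^ c ∣ f → f ∈ A)

include hc in
/-- submodules containing a nonzero element contain all series of high order -/
theorem exists_bound (N : Submodule A (PowerSeries k)) {f : PowerSeries k} (hf : f ∈ N) (hf0 : f ≠ 0) :
    ∃ N₀ : ℕ, ∀ g, X ^ N₀ ∣ g → g ∈ N := by
  obtain ⟨n, hn⟩ := exists_nat_order f hf0
  obtain ⟨v, hv, hfv⟩ := exists_unit f n hn
  obtain ⟨v', rfl⟩ := (isUnit_iff_constantCoeff.mpr (isUnit_iff_ne_zero.mpr hv) : IsUnit v)
  refine ⟨n + c, fun g ⟨w, hw⟩ => ?_⟩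
  have e : g = (⟨X ^ c * ((↑v'⁻¹ : PowerSeries k) * w), hc _ (dvd_mul_right _ _)⟩ : A) • f := by
    show g = X ^ c * ((↑v'⁻¹ : PowerSeries k) * w) * f
    rw [hw, hfv, pow_add]
    linear_combination -(X ^ n * X ^ c * w) * (Units.mul_inv v')
  rw [e]
  exact N.smul_mem _ hf

include hc in
theorem fg_of_contains (hA : Module.Finite A (PowerSeries k)) (N : Submodule A (PowerSeries k)) : N.FG := by
  classical
  haveI := hA
  by_cases hN : N = ⊥
  · rw [hN]; exact Submodule.fg_bot
  obtain ⟨f, hf, hf0⟩ := Submodule.exists_mem_ne_zero_of_ne_bot hN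
  obtain ⟨N₀, hN₀⟩ := exists_bound hc N hf hf0
  let L : PowerSeries k →ₗ[A] PowerSeries k :=
    (LinearMap.mulLeft (PowerSeries k) ((X : PowerSeries k) ^ N₀)).restrictScalars A
  let V : Submodule k (Fin N₀ → k) :=
    (N.restrictScalars k).map (LinearMap.pi fun i : Fin N₀ => PowerSeries.coeff (i : ℕ))
  obtain ⟨t, ht⟩ := IsNoetherian.noetherian V
  have hpre : ∀ v ∈ (t : Set (Fin N₀ → k)), ∃ g ∈ N, (fun i : Fin N₀ => PowerSeries.coeff (i : ℕ) g) = v := fun v hv => by
    obtain ⟨g, hg, hgv⟩ : v ∈ V := ht.le (Submodule.subset_span hv)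
    exact ⟨g, hg, hgv⟩
  choose! g hgN hgv using hpre
  suffices h : N = LinearMap.range L ⊔ Submodule.span A (g '' (t : Set (Fin N₀ → k))) by
    rw [h]
    refine Submodule.FG.sup ?_ (Submodule.fg_span (t.finite_toSet.image g))
    rw [LinearMap.range_eq_map]
    exact Module.Finite.fg_top.map L
  refine le_antisymm (fun x hx => ?_) (sup_le ?_ (Submodule.span_le.2 ?_))
  · have hxV : (fun i : Fin N₀ => PowerSeries.coeff (i : ℕ) x) ∈ V := ⟨x, hx, rfl⟩
    rw [← ht] at hxV
    obtain ⟨a, -, ha⟩ := Submodule.mem_span_finset.1 hxV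
    obtain ⟨w, hw⟩ : X ^ N₀ ∣ x - ∑ v ∈ t, a v • g v := by
      rw [PowerSeries.X_pow_dvd_iff]
      intro m hm
      have h1 := congrFun ha ⟨m, hm⟩
      simp only [Finset.sum_apply, Pi.smul_apply] at h1
      rw [map_sub, map_sum, ← h1, sub_eq_zero]
      refine Finset.sum_congr rfl fun v hv => ?_
      rw [map_smul]
      exact congrArg (a v • ·) (congrFun (hgv v hv) ⟨m, hm⟩).symm
    refine Submodule.mem_sup.2 ⟨X ^ N₀ * w, ⟨w, rfl⟩, ∑ v ∈ t, a v • g v, sum_mem fun v hv => ?_, by rw [← hw, sub_add_cancel]⟩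
    exact Submodule.smul_of_tower_mem _ _ (Submodule.subset_span ⟨v, hv, rfl⟩)
  · rintro _ ⟨z, rfl⟩
    exact hN₀ _ (dvd_mul_right _ _)
  · rintro _ ⟨v, hv, rfl⟩
    exact hgN v hv

include hc in
theorem isNoetherianRing (hA : Module.Finite A (PowerSeries k)) : IsNoetherianRing A := by
  haveI : IsNoetherian A (PowerSeries k) := ⟨fg_of_contains hc hA⟩
  exact isNoetherian_of_injective (Algebra.linearMap A (PowerSeries k)) Subtype.val_injective

include hc in
theorem ringKrullDim_eq_one (hA : Module.Finite A (PowerSeries k)) (hc0 : c ≠ 0) : ringKrullDim A = 1 := by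
  haveI := isLocalRing hA
  have hx : ∀ a : A, ¬ IsUnit a → X ∣ (a : PowerSeries k) := fun a ha => by
    rw [isUnit_iff hA, not_not] at ha
    exact X_dvd_iff.2 ha
  refine eq_of_le_of_not_lt ((Ring.krullDimLE_iff (n := 1)).mp ?_) fun h => ?_
  · refine Ring.krullDimLE_one_iff_of_noZeroDivisors.2 fun P hP0 hP => ?_
    obtain ⟨p, hp, hp0⟩ := Submodule.exists_mem_ne_zero_of_ne_bot hP0
    obtain ⟨N₀, hN₀⟩ := exists_bound hc (Submodule.map (Algebra.linearMap A (PowerSeries k)) P) ⟨p, hp, rfl⟩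
      (fun h => hp0 (Subtype.ext h))
    suffices h : P = IsLocalRing.maximalIdeal A from h ▸ IsLocalRing.maximalIdeal.isMaximal A
    refine le_antisymm (IsLocalRing.le_maximalIdeal hP.ne_top) fun a ha => hP.mem_of_pow_mem N₀ ?_
    obtain ⟨q, hq, hqa⟩ := hN₀ ((a : PowerSeries k) ^ N₀) (pow_dvd_pow_of_dvd (hx a ha) N₀)
    have e : a ^ N₀ = q := Subtype.ext (by rw [SubmonoidClass.coe_pow]; exact hqa.symm)
    exact e ▸ hq
  · haveI : Ring.KrullDimLE 0 A := Ring.krullDimLE_iff.mpr (ENat.WithBot.lt_add_one_iff.mp h)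
    obtain ⟨b, hb⟩ := (Ring.KrullDimLE.isField_of_isDomain (R := A)).mul_inv_cancel
      (a := ⟨X ^ c, hc _ dvd_rfl⟩) fun h0 => pow_ne_zero c X_ne_zero (congrArg Subtype.val h0)
    have hu := IsUnit.of_mul_eq_one b hb
    rw [isUnit_iff hA] at hu
    exact hu (by simp [zero_pow hc0])

include hc in
theorem isFractionRing : IsFractionRing A (FractionRing (PowerSeries k)) where
  map_units y := IsUnit.mk0 _ fun h => nonZeroDivisors.ne_zero y.2 (Subtype.ext
    ((map_eq_zero_iff _ (IsFractionRing.injective (PowerSeries k) _)).1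
      ((IsScalarTower.algebraMap_apply A (PowerSeries k) (FractionRing (PowerSeries k)) (y : A)).symm.trans h)))
  surj z := by
    obtain ⟨f, g, hg, rfl⟩ := IsFractionRing.div_surjective (PowerSeries k) z
    refine ⟨(⟨X ^ c * f, hc _ (dvd_mul_right _ _)⟩, ⟨⟨X ^ c * g, hc _ (dvd_mul_right _ _)⟩,
      mem_nonZeroDivisors_of_ne_zero fun h0 =>
        mul_ne_zero (pow_ne_zero c X_ne_zero) (nonZeroDivisors.ne_zero hg) (congrArg Subtype.val h0)⟩), ?_⟩
    rw [IsScalarTower.algebraMap_apply A (PowerSeries k), IsScalarTower.algebraMap_apply A (PowerSeries k)]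
    change _ * algebraMap (PowerSeries k) _ (X ^ c * g) = algebraMap (PowerSeries k) _ (X ^ c * f)
    rw [map_mul, map_mul]
    have := IsFractionRing.to_map_ne_zero_of_mem_nonZeroDivisors (K := FractionRing (PowerSeries k)) hg
    field_simp
  exists_of_eq {x y} h := ⟨1, by
    rw [IsScalarTower.algebraMap_apply A (PowerSeries k), IsScalarTower.algebraMap_apply A (PowerSeries k)] at h
    rw [show x = y from Subtype.ext (IsFractionRing.injective (PowerSeries k) _ h)]⟩

/-- the series of order at least `j` -/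
noncomputable def ge (A : Subalgebra k (PowerSeries k)) (j : ℕ) : Submodule A (PowerSeries k) :=
  LinearMap.range ((LinearMap.mulLeft (PowerSeries k) ((X : PowerSeries k) ^ j)).restrictScalars A)

theorem mem_ge {j : ℕ} {f : PowerSeries k} : f ∈ ge A j ↔ X ^ j ∣ f :=
  ⟨fun ⟨w, hw⟩ => ⟨w, hw.symm⟩, fun ⟨w, hw⟩ => ⟨w, hw.symm⟩⟩

theorem ge_zero : ge A 0 = ⊤ := eq_top_iff.2 fun f _ => mem_ge.2 ((pow_zero (X : PowerSeries k)).symm ▸ one_dvd f)

/-- the gaps of a submodule give its colength -/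
theorem lenQ_sup_ge (hA : Module.Finite A (PowerSeries k)) (N : Submodule A (PowerSeries k)) (V : Set ℕ)
    [DecidablePred (· ∈ V)] (hV : ∀ n, n ∈ V ↔ ∃ f ∈ N, order f = (n : ℕ∞)) (j : ℕ) :
    lenQ (N ⊔ ge A j) ⊤ = ((Finset.range j).filter fun n => n ∉ V).card := by
  haveI := isLocalRing hA
  induction j with
  | zero =>
    rw [ge_zero, sup_top_eq, Finset.range_zero, Finset.filter_empty, Finset.card_empty, Nat.cast_zero]
    exact lenQ_self _
  | succ j ih =>
    have hle : N ⊔ ge A (j + 1) ≤ N ⊔ ge A j :=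
      sup_le_sup_left (fun f hf => mem_ge.2 ((pow_dvd_pow X (Nat.le_succ j)).trans (mem_ge.1 hf))) N
    rw [lenQ_add hle le_top, ih, Finset.range_add_one, Finset.filter_insert]
    by_cases hj : j ∈ V
    · rw [if_neg (not_not.2 hj)]
      have : N ⊔ ge A j ≤ N ⊔ ge A (j + 1) := by
        refine sup_le le_sup_left fun f hf => ?_
        obtain ⟨g, hg, hgo⟩ := (hV j).1 hj
        obtain ⟨r, hr⟩ := exists_smul_sub f g j (mem_ge.1 hf) hgo
        exact Submodule.mem_sup.2 ⟨r • g, N.smul_of_tower_mem r hg, f - r • g, mem_ge.2 hr, by abel⟩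
      rw [le_antisymm hle this, lenQ_self, zero_add]
    · rw [if_pos hj, Finset.card_insert_of_notMem (fun h => by simp at h), Nat.cast_add, Nat.cast_one,
        add_comm (_ : ℕ∞) 1]
      congr 1
      refine lenQ_eq_one (X ^ j) (Submodule.mem_sup_right (mem_ge.2 dvd_rfl)) ?_ ?_ ?_
      · intro x hx
        obtain ⟨n, hn, f, hf, rfl⟩ := Submodule.mem_sup.1 hx
        obtain ⟨r, hr⟩ := exists_smul_sub f (X ^ j) j (mem_ge.1 hf) (order_X_pow j)
        refine ⟨algebraMap k A r, Submodule.mem_sup.2 ⟨n, hn, f - r • X ^ j, mem_ge.2 hr, ?_⟩⟩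
        rw [algebraMap_smul]
        abel
      · intro h
        obtain ⟨n, hn, f, hf, hnf⟩ := Submodule.mem_sup.1 h
        refine hj ((hV j).2 ⟨n, hn, ?_⟩)
        have hn' : n = X ^ j - f := by rw [eq_sub_iff_add_eq]; exact hnf
        rw [order_eq_nat, hn']
        have hf' := PowerSeries.X_pow_dvd_iff.1 (mem_ge.1 hf)
        refine ⟨?_, fun i hi => ?_⟩
        · rw [map_sub, hf' j (Nat.lt_succ_self j), sub_zero, coeff_X_pow_self]
          exact one_ne_zero
        · rw [map_sub, hf' i (hi.trans (Nat.lt_succ_self j)), sub_zero, coeff_X_pow, if_neg hi.ne]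
      · intro x hx
        refine Submodule.mem_sup_right (mem_ge.2 ?_)
        change X ^ (j + 1) ∣ (x : PowerSeries k) * X ^ j
        have h0 : constantCoeff (x : PowerSeries k) = 0 := by_contra fun h0 => hx ((isUnit_iff hA x).2 h0)
        obtain ⟨w, hw⟩ := X_dvd_iff.2 h0
        exact ⟨w, by rw [hw, pow_succ]; ring⟩

include hc in
theorem valueSet_dual (hA : Module.Finite A (PowerSeries k)) (hc0 : c ≠ 0)
    (hc1 : ∀ f ∈ A, order f ≠ ((c - 1 : ℕ) : ℕ∞)) (ω : Submodule A (PowerSeries k)) (hω1 : (1 : PowerSeries k) ∈ ω)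
    (hωinj : HasInjectiveDimensionLT (ModuleCat.of A ω) 2) (M : Submodule A (PowerSeries k))
    (hM1 : (1 : PowerSeries k) ∈ M) (n : ℕ) :
    (∃ u : PowerSeries k, order u = n ∧ ∀ m ∈ M, u * m ∈ ω) ↔
      (c ≤ n ∨ ¬ ∃ m ∈ M, order m = ((c - 1 - n : ℕ) : ℕ∞)) := by
  classical
  haveI := isLocalRing hA
  haveI := isNoetherianRing hc hA
  haveI := isFractionRing hc
  have hdim := ringKrullDim_eq_one hc hA hc0
  let K := FractionRing (PowerSeries k)
  let ι : PowerSeries k →ₗ[A] K := (IsScalarTower.toAlgHom A (PowerSeries k) K).toLinearMap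
  have hι : Function.Injective ι := IsFractionRing.injective (PowerSeries k) K
  have hιmul : ∀ f g, ι (f * g) = ι f * ι g := fun f g => map_mul (algebraMap (PowerSeries k) K) f g
  let E : PowerSeries k →ₗ[A] (Fin 1 → K) := LinearMap.pi fun _ => ι
  have hE : Function.Injective E := fun a b h => hι (congrFun h 0)
  let ωK := ω.map ι
  haveI : HasInjectiveDimensionLT (ModuleCat.of A ωK) 2 := hid_map ι hι ω hωinj
  have hωfg : ωK.FG := (fg_of_contains hc hA ω).map ι
  have hω0 : ωK ≠ ⊥ := fun h => one_ne_zero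
    ((map_one (algebraMap (PowerSeries k) K)).symm.trans ((Submodule.mem_bot A).1 (h ▸ ⟨1, hω1, rfl⟩)))
  have hAω : ∀ f ∈ A, f ∈ ω := fun f hf => by
    have := ω.smul_mem ⟨f, hf⟩ hω1
    simpa [Algebra.smul_def] using (show f * 1 ∈ ω from this)
  have hAM : ∀ f ∈ A, f ∈ M := fun f hf => by
    have := M.smul_mem ⟨f, hf⟩ hM1
    simpa [Algebra.smul_def] using (show f * 1 ∈ M from this)
  -- multipliers
  let U : Submodule A (PowerSeries k) :=
    { carrier := {u | ∀ m ∈ M, u * m ∈ ω}
      add_mem' := fun {a b} ha hb m hm => by rw [add_mul]; exact add_mem (ha m hm) (hb m hm)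
      zero_mem' := fun m _ => by simp
      smul_mem' := fun r a ha m hm => by rw [smul_mul_assoc]; exact ω.smul_mem r (ha m hm) }
  have hdot : ∀ x y : PowerSeries k, dotProduct (E x) (E y) = ι (x * y) := fun x y => by
    simp [E, dotProduct, hιmul]
  have hD : dlat ωK (M.map E) = U.map E := by
    ext y
    constructor
    · intro hy
      obtain ⟨w, hw, hw1⟩ := hy (E 1) ⟨1, hM1, rfl⟩
      have e : y = E w := funext fun i => by
        rw [Subsingleton.elim i 0]
        simpa [E, dotProduct, ι] using hw1.symm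
      refine ⟨w, fun m hm => ?_, e.symm⟩
      obtain ⟨z, hz, hz1⟩ := hy (E m) ⟨m, hm, rfl⟩
      rw [e, hdot] at hz1
      rw [mul_comm, ← hι hz1]
      exact hz
    · rintro ⟨u, hu, rfl⟩ _ ⟨m, hm, rfl⟩
      rw [hdot, mul_comm]
      exact ⟨_, hu m hm, rfl⟩
  -- multipliers of the normalisation
  have hstab : ∀ u : PowerSeries k, (∀ z, u * z ∈ ω) → u ∈ ge A c := by
    intro u hu
    rw [mem_ge, X_pow_dvd_iff_le]
    by_cases hu0 : u = 0
    · simp [hu0]
    obtain ⟨m, hm⟩ := exists_nat_order u hu0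
    rw [hm]
    by_contra hlt
    rw [not_le, Nat.cast_lt] at hlt
    obtain ⟨a, ha⟩ := mul_mem_imp hdim ωK hω0 hωfg (x := ι (u * X ^ (c - 1 - m))) (by
      rintro _ ⟨w, hw, rfl⟩
      exact ⟨u * X ^ (c - 1 - m) * w, by rw [mul_assoc]; exact hu _, hιmul _ _⟩)
    have hmem : u * X ^ (c - 1 - m) ∈ A := by
      rw [show u * X ^ (c - 1 - m) = (a : PowerSeries k) from hι ha.symm]
      exact a.2
    refine hc1 _ hmem ?_
    rw [order_mul, order_X_pow, hm]
    norm_cast
    omega
  have hD' : dlat ωK ((⊤ : Submodule A (PowerSeries k)).map E) = (ge A c).map E := by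
    ext y
    constructor
    · intro hy
      obtain ⟨w, hw, hw1⟩ := hy (E 1) ⟨1, trivial, rfl⟩
      have e : y = E w := funext fun i => by
        rw [Subsingleton.elim i 0]
        simpa [E, dotProduct, ι] using hw1.symm
      refine ⟨w, hstab w fun z => ?_, e.symm⟩
      obtain ⟨v, hv, hv1⟩ := hy (E z) ⟨z, trivial, rfl⟩
      rw [e, hdot] at hv1
      rw [mul_comm, ← hι hv1]
      exact hv
    · rintro ⟨u, hu, rfl⟩ _ ⟨z, -, rfl⟩
      rw [hdot]
      exact ⟨_, hAω _ (hc _ ((mem_ge.1 hu).mul_left z)), rfl⟩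
  have hlat : ∀ N : Submodule A (PowerSeries k), (1 : PowerSeries k) ∈ N → IsLat (N.map E) := fun N hN => by
    refine ⟨(fg_of_contains hc hA N).map E, eq_top_iff.2 fun z _ => ?_⟩
    have hz : z = z 0 • E 1 := funext fun i => by rw [Subsingleton.elim i 0]; simp [E, ι]
    rw [hz]
    exact Submodule.smul_mem _ _ (Submodule.subset_span ⟨1, hN, rfl⟩)
  have hlen := lenQ_dlat hdim ωK hω0 hωfg (hlat M hM1) (hlat ⊤ trivial) (Submodule.map_mono le_top)
  rw [hD, hD', lenQ_map_injective E hE, lenQ_map_injective E hE] at hlen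
  have hgeU : ge A c ≤ U := fun f hf m _ => hAω _ (hc _ ((mem_ge.1 hf).mul_right m))
  -- counting
  let vM : Set ℕ := {i | ∃ m ∈ M, order m = (i : ℕ∞)}
  let vU : Set ℕ := {i | ∃ m ∈ U, order m = (i : ℕ∞)}
  have h1 := lenQ_sup_ge hA M vM (fun _ => Iff.rfl) c
  rw [sup_eq_left.2 fun f hf => hAM f (hc f (mem_ge.1 hf))] at h1
  have h2 := lenQ_sup_ge hA U vU (fun _ => Iff.rfl) c
  rw [sup_eq_left.2 hgeU] at h2
  have h3 := lenQ_sup_ge hA (⊥ : Submodule A (PowerSeries k)) ∅ (fun m => ⟨False.elim, fun ⟨f, hf, hfo⟩ => by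
    rw [(Submodule.mem_bot A).1 hf, order_zero] at hfo
    exact absurd hfo (ENat.top_ne_natCast m)⟩) c
  rw [bot_sup_eq, show ((Finset.range c).filter fun m => m ∉ (∅ : Set ℕ)) = Finset.range c from
    Finset.filter_true_of_mem fun _ _ => not_false, Finset.card_range] at h3
  rw [lenQ_add hgeU le_top, hlen, h1, h2, ← Nat.cast_add, Nat.cast_inj] at h3
  -- the two sets coincide
  let S : Finset ℕ := (Finset.range c).filter fun m => m ∈ vU
  let T : Finset ℕ := (Finset.range c).filter fun m => c - 1 - m ∉ vM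
  have hsub : S ⊆ T := by
    intro m hm
    obtain ⟨hmc, u, hu, huo⟩ := Finset.mem_filter.1 hm
    rw [Finset.mem_range] at hmc
    refine Finset.mem_filter.2 ⟨Finset.mem_range.2 hmc, fun ⟨x, hx, hxo⟩ => ?_⟩
    have hprod : order (u * x) = ((c - 1 : ℕ) : ℕ∞) := by
      rw [order_mul, huo, hxo]
      norm_cast
      omega
    have hge : ∀ f : PowerSeries k, X ^ (c - 1) ∣ f → f ∈ ω := by
      intro f hf
      obtain ⟨r, hr⟩ := exists_smul_sub f _ _ hf hprod
      rw [Nat.sub_add_cancel (Nat.one_le_iff_ne_zero.2 hc0)] at hr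
      have := add_mem (hAω _ (hc _ hr)) (ω.smul_of_tower_mem r (hu x hx))
      rwa [sub_add_cancel] at this
    have := mem_ge.1 (hstab (X ^ (c - 1)) fun z => hge _ (dvd_mul_right _ _))
    rw [X_pow_dvd_iff_le, order_X_pow] at this
    norm_cast at this
    omega
  have hT : T.card = ((Finset.range c).filter fun m => m ∉ vM).card := by
    refine Finset.card_bij (fun m _ => c - 1 - m) ?_ ?_ ?_
    · intro m hm
      simp only [T, Finset.mem_filter, Finset.mem_range] at hm ⊢
      exact ⟨by omega, hm.2⟩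
    · intro a ha b hb hab
      simp only [T, Finset.mem_filter, Finset.mem_range] at ha hb
      omega
    · intro b hb
      simp only [Finset.mem_filter, Finset.mem_range] at hb
      refine ⟨c - 1 - b, ?_, by omega⟩
      simp only [T, Finset.mem_filter, Finset.mem_range]
      exact ⟨by omega, by rw [show c - 1 - (c - 1 - b) = b by omega]; exact hb.2⟩
  have hS : S.card + ((Finset.range c).filter fun m => m ∉ vU).card = c := by
    rw [Finset.card_filter_add_card_filter_not, Finset.card_range]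
  have hST : S = T := Finset.eq_of_subset_of_card_le hsub (by omega)
  rcases le_or_gt c n with hn | hn
  · exact iff_of_true ⟨X ^ n, order_X_pow n,
      fun m _ => hAω _ (hc _ ((pow_dvd_pow X hn).mul_right m))⟩ (Or.inl hn)
  · have h4 := Finset.ext_iff.1 hST n
    simp only [S, T, Finset.mem_filter, Finset.mem_range, hn, true_and] at h4
    rw [or_iff_right (not_le.2 hn)]
    exact ⟨fun ⟨u, huo, hu⟩ => h4.1 ⟨u, hu, huo⟩, fun h => by
      obtain ⟨u, hu, huo⟩ := h4.2 h
      exact ⟨u, huo, hu⟩⟩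

end Groth.Agent.TFLoc.PS
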