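import Mathlib
import Groth.Agent.LocCoh.TorLES
import Groth.Agent.CAlgLib.TorBalance

/-!
# `Tor₁` and injective maps with cokernel of finite length (one-dimensional domains)
-/

set_option autoImplicit false
universe u

open CategoryTheory MonoidalCategory TensorProduct

namespace Groth.Agent.TFLoc

variable {O : Type u} [CommRing O] [IsDomain O]

theorem exists_smul_eq_zero_of_isFiniteLength (hdim : ringKrullDim O = 1) {T : Type u} [AddCommGroup T]
    [Module O T] (hT : IsFiniteLength O T) : ∃ d : O, d ≠ 0 ∧ ∀ x : T, d • x = 0 := by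
  classical
  obtain ⟨hN, hA⟩ := isFiniteLength_iff_isNoetherian_isArtinian.1 hT
  have tors : ∀ x : T, ∃ d : O, d ≠ 0 ∧ d • x = 0 := by
    intro x
    by_contra hx
    push Not at hx
    have hinj : Function.Injective (LinearMap.toSpanSingleton O T x) := by
      refine (injective_iff_map_eq_zero _).2 fun r hr => ?_
      by_contra hr0
      exact hx r hr0 (by simpa using hr)
    haveI : IsArtinianRing O := isArtinian_of_injective _ hinj
    have h0 := ringKrullDim_eq_zero_of_isField (IsArtinianRing.isField_of_isDomain O)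
    rw [hdim] at h0
    exact one_ne_zero h0
  choose d hd0 hd using tors
  obtain ⟨s, hs⟩ := hN.noetherian ⊤
  refine ⟨∏ x ∈ s, d x, Finset.prod_ne_zero_iff.2 fun x _ => hd0 x, fun x => ?_⟩
  have hx : x ∈ Submodule.span O (s : Set T) := hs ▸ Submodule.mem_top
  induction hx using Submodule.span_induction with
  | mem y hy => rw [← Finset.prod_erase_mul s d hy, mul_smul, hd y, smul_zero]
  | zero => simp
  | add a b _ _ ha hb => rw [smul_add, ha, hb, add_zero]
  | smul r a _ ha => rw [smul_comm, ha, smul_zero]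

/-- An injective map with cokernel killed by `d ≠ 0` is invertible up to `d`. -/
theorem exists_quasi_inverse (hdim : ringKrullDim O = 1) {A B : Type u} [AddCommGroup A] [Module O A]
    [AddCommGroup B] [Module O B] (f : A →ₗ[O] B) (hf : Function.Injective f)
    (hT : IsFiniteLength O (B ⧸ LinearMap.range f)) :
    ∃ (d : O) (h : B →ₗ[O] A), d ≠ 0 ∧ f.comp h = d • LinearMap.id ∧ h.comp f = d • LinearMap.id := by
  obtain ⟨d, hd0, hd⟩ := exists_smul_eq_zero_of_isFiniteLength hdim hT
  have hmem : ∀ y : B, d • y ∈ LinearMap.range f := fun y => by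
    have := hd (Submodule.Quotient.mk y)
    rwa [← Submodule.Quotient.mk_smul, Submodule.Quotient.mk_eq_zero] at this
  let e := LinearEquiv.ofInjective f hf
  let h : B →ₗ[O] A :=
    e.symm.toLinearMap.comp (LinearMap.codRestrict (LinearMap.range f) (d • LinearMap.id) hmem)
  have key : ∀ y, f (h y) = d • y := fun y => by
    have h1 := e.apply_symm_apply ⟨d • y, hmem y⟩
    exact congrArg Subtype.val h1
  refine ⟨d, h, hd0, LinearMap.ext key, LinearMap.ext fun x => hf ?_⟩
  simp [key]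

variable {C : Type u} [AddCommGroup C] [Module O C]

/-- `C ⊗ Oⁿ` is torsion-free when `C` is. -/
theorem eq_zero_of_smul_tensor (hC : ∀ (d : O) (c : C), d ≠ 0 → d • c = 0 → c = 0) {n : ℕ} (d : O)
    (hd : d ≠ 0) (x : C ⊗[O] (Fin n → O)) (hx : d • x = 0) : x = 0 := by
  have e := TensorProduct.piScalarRight O O C (Fin n)
  refine e.injective ?_
  rw [map_zero]
  funext i
  refine hC d _ hd ?_
  have := congrArg (fun y => e y i) hx
  simpa using this

theorem lTensor_injective_of_quasi_inverse (hC : ∀ (d : O) (c : C), d ≠ 0 → d • c = 0 → c = 0) {n : ℕ}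
    {M : Type u} [AddCommGroup M] [Module O M] (f : (Fin n → O) →ₗ[O] M) (d : O) (hd : d ≠ 0)
    (h : M →ₗ[O] (Fin n → O)) (hh : h.comp f = d • LinearMap.id) : Function.Injective (f.lTensor C) := by
  refine (injective_iff_map_eq_zero _).2 fun x hx => eq_zero_of_smul_tensor hC d hd x ?_
  have h1 := congrArg (h.lTensor C) hx
  rw [map_zero, ← LinearMap.comp_apply, ← LinearMap.lTensor_comp, hh, LinearMap.lTensor_smul] at h1
  simpa using h1

theorem ker_lTensor_eq_torsion (hC : ∀ (d : O) (c : C), d ≠ 0 → d • c = 0 → c = 0) {n : ℕ}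
    {M : Type u} [AddCommGroup M] [Module O M] (g : M →ₗ[O] (Fin n → O)) (d : O) (hd : d ≠ 0)
    (h : (Fin n → O) →ₗ[O] M) (hh : h.comp g = d • LinearMap.id) :
    LinearMap.ker (g.lTensor C) = Submodule.torsion O (C ⊗[O] M) := by
  ext x
  rw [LinearMap.mem_ker, Submodule.mem_torsion_iff]
  constructor
  · intro hx
    refine ⟨⟨d, mem_nonZeroDivisors_of_ne_zero hd⟩, ?_⟩
    have h1 := congrArg (h.lTensor C) hx
    rw [map_zero, ← LinearMap.comp_apply, ← LinearMap.lTensor_comp, hh, LinearMap.lTensor_smul] at h1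
    simpa [Submonoid.smul_def] using h1
  · rintro ⟨a, ha⟩
    refine eq_zero_of_smul_tensor hC (a : O) (nonZeroDivisors.ne_zero a.2) _ ?_
    rw [← map_smul]
    rw [Submonoid.smul_def] at ha
    rw [ha, map_zero]

/-! ## consequences of the long exact sequence -/

open Groth.Agent.LocCoh.Tor in
/-- If `Tor₁(X₁,N) = 0` and `X₁ ⊗ N → X₂ ⊗ N` is injective then `Tor₁(X₂,N) ≅ Tor₁(X₃,N)`. -/
noncomputable def tor1Equiv {S : ShortComplex (ModuleCat.{u} O)} (hS : S.ShortExact) [Module.Flat O S.X₁]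
    (N : ModuleCat.{u} O) (hinj : Function.Injective (S.f.hom.rTensor N)) :
    T 1 S.X₂ N ≃ₗ[O] T 1 S.X₃ N := by
  refine LinearEquiv.ofBijective (tf S.g 1 N).hom ⟨?_, ?_⟩
  · refine (injective_iff_map_eq_zero _).2 fun x hx => ?_
    obtain ⟨y, hy⟩ := (tor_exact₂ hS 1 N x).1 hx
    rw [← hy, tor_succ_eq_zero_of_flat S.X₁ 0 N y, map_zero]
  · intro y
    refine (tor_exact₃ hS 0 N y).1 ?_
    have hi : Function.Injective (tf S.f 0 N).hom := by
      intro a b hab
      refine (t0 S.X₁ N).toLinearEquiv.injective (hinj ?_)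
      have ha := congrArg (fun k => k.hom a) (t0_naturality_left S.f N)
      have hb := congrArg (fun k => k.hom b) (t0_naturality_left S.f N)
      simp only [ModuleCat.hom_comp, LinearMap.comp_apply] at ha hb
      exact ha.symm.trans ((congrArg _ hab).trans hb)
    refine hi ?_
    rw [map_zero]
    exact (tor_exact₁ hS 0 N _).2 ⟨y, rfl⟩

open Groth.Agent.LocCoh.Tor in
/-- If `Tor₁(X₂,N) = 0` then `Tor₁(X₃,N)` is the kernel of `X₁ ⊗ N → X₂ ⊗ N`. -/
noncomputable def tor1KerEquiv {S : ShortComplex (ModuleCat.{u} O)} (hS : S.ShortExact) [Module.Flat O S.X₂]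
    (N : ModuleCat.{u} O) : T 1 S.X₃ N ≃ₗ[O] LinearMap.ker (S.f.hom.rTensor N) := by
  let φ : T 1 S.X₃ N →ₗ[O] (S.X₁ ⊗[O] N) := (torδ hS 0 N ≫ (t0 S.X₁ N).hom).hom
  have hcomm : ∀ a, S.f.hom.rTensor N ((t0 S.X₁ N).hom.hom a) =
      (t0 S.X₂ N).hom.hom ((tf S.f 0 N).hom a) := fun a => by
    have ha := congrArg (fun k => k.hom a) (t0_naturality_left S.f N)
    simp only [ModuleCat.hom_comp, LinearMap.comp_apply] at ha
    exact ha.symm
  refine LinearEquiv.ofBijective (φ.codRestrict _ fun x => ?_) ⟨?_, ?_⟩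
  · refine LinearMap.mem_ker.2 ((hcomm _).trans ?_)
    exact (congrArg _ ((tor_exact₁ hS 0 N _).2 ⟨x, rfl⟩)).trans (map_zero _)
  · refine (injective_iff_map_eq_zero _).2 fun x hx => ?_
    have h1 : φ x = 0 := congrArg Subtype.val hx
    have h2 : (torδ hS 0 N).hom x = 0 :=
      (t0 S.X₁ N).toLinearEquiv.injective (h1.trans (map_zero _).symm)
    obtain ⟨y, hy⟩ := (tor_exact₃ hS 0 N x).1 h2
    rw [← hy, tor_succ_eq_zero_of_flat S.X₂ 0 N y, map_zero]
  · rintro ⟨z, hz⟩
    obtain ⟨a, ha⟩ := (t0 S.X₁ N).toLinearEquiv.surjective z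
    have h1 : (tf S.f 0 N).hom a = 0 := by
      refine (t0 S.X₂ N).toLinearEquiv.injective ?_
      rw [map_zero]
      refine (hcomm a).symm.trans ?_
      exact (congrArg _ ha).trans hz
    obtain ⟨x, hx⟩ := (tor_exact₁ hS 0 N a).1 h1
    exact ⟨x, Subtype.ext ((congrArg _ hx).trans ha)⟩

end Groth.Agent.TFLoc
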