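import Groth.Agent.TFLoc.DualMore

/-!
# Lattices over Gorenstein rings
-/

set_option autoImplicit false
universe u

open IsLocalRing CategoryTheory

namespace Groth.Agent.TFLoc

variable (O : Type u) [CommRing O] (K : Type u) [Field K] [Algebra O K]

/-- the conductor as a submodule of `K` -/
abbrev condSub : Submodule O K :=
  ((1 : Submodule O K).colon (Subalgebra.toSubmodule (integralClosure O K))) • (1 : Submodule O K)

/-- the `n`-fold conductor -/
abbrev condLat (n : ℕ) : Submodule O (Fin n → K) := Submodule.pi Set.univ fun _ : Fin n => condSub O K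

variable {O K}

theorem mem_condSub {x : K} : x ∈ condSub O K ↔
    (∃ a : O, algebraMap O K a = x) ∧ ∀ z ∈ integralClosure O K, ∃ b : O, algebraMap O K b = z * x := by
  have hmul : ∀ (c : O) (y : K), c ∈ (1 : Submodule O K).colon (Subalgebra.toSubmodule (integralClosure O K)) →
      y ∈ (1 : Submodule O K) → (∃ a : O, algebraMap O K a = c • y) ∧
        ∀ z ∈ integralClosure O K, ∃ b : O, algebraMap O K b = z * (c • y) := by
    intro c y hc hy
    obtain ⟨a, rfl⟩ := Submodule.mem_one.1 hy
    refine ⟨⟨c * a, by rw [Algebra.smul_def, map_mul]⟩, fun z hz => ?_⟩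
    obtain ⟨b, hb⟩ := Submodule.mem_one.1 (Submodule.mem_colon.1 hc z hz)
    refine ⟨a * b, ?_⟩
    rw [map_mul, hb, Algebra.smul_def, Algebra.smul_def]
    ring
  constructor
  · intro hx
    refine Submodule.smul_induction_on hx (fun c hc y hy => hmul c y hc hy) ?_
    rintro x y ⟨⟨a, ha⟩, ha'⟩ ⟨⟨b, hb⟩, hb'⟩
    refine ⟨⟨a + b, by rw [map_add, ha, hb]⟩, fun z hz => ?_⟩
    obtain ⟨c, hc⟩ := ha' z hz
    obtain ⟨d, hd⟩ := hb' z hz
    exact ⟨c + d, by rw [map_add, hc, hd, mul_add]⟩
  · rintro ⟨⟨a, rfl⟩, h⟩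
    rw [show algebraMap O K a = a • (1 : K) from Algebra.algebraMap_eq_smul_one a]
    refine Submodule.smul_mem_smul (Submodule.mem_colon.2 fun z hz => ?_) (Submodule.mem_one.2 ⟨1, map_one _⟩)
    · obtain ⟨b, hb⟩ := h z hz
      exact Submodule.mem_one.2 ⟨b, by rw [hb, Algebra.smul_def, mul_comm]⟩

theorem one_le_one' : (1 : K) ∈ (1 : Submodule O K) := Submodule.mem_one.2 ⟨1, map_one _⟩

variable [IsDomain O] [IsFractionRing O K]

omit [IsDomain O] [IsFractionRing O K] in
theorem dlat_normLat (n : ℕ) : dlat (1 : Submodule O K) (normLat O K n) = condLat O K n := by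
  classical
  ext y
  simp only [Submodule.mem_pi, Set.mem_univ, forall_const, mem_condSub]
  constructor
  · intro hy i
    refine ⟨?_, fun z hz => ?_⟩
    · have := hy (Pi.single i 1) (mem_normLat.2 fun j => by
        rcases eq_or_ne j i with rfl | h <;> simp [*, one_mem, zero_mem])
      simpa [Submodule.mem_one] using this
    · have := hy (Pi.single i z) (mem_normLat.2 fun j => by
        rcases eq_or_ne j i with rfl | h <;> simp [*, zero_mem])
      simpa [Submodule.mem_one] using this
  · intro hy x hx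
    refine Submodule.sum_mem _ fun i _ => ?_
    exact Submodule.mem_one.2 ((hy i).2 _ (mem_normLat.1 hx i))

omit [IsDomain O] [IsFractionRing O K] in
theorem dlat_stdLat (n : ℕ) : dlat (1 : Submodule O K) (stdLat O K n) = stdLat O K n := by
  classical
  ext y
  rw [mem_stdLat]
  constructor
  · intro hy i
    simpa [Submodule.mem_one] using hy (Pi.single i 1) (single_mem_stdLat i)
  · intro hy x hx
    refine Submodule.sum_mem _ fun i _ => ?_
    obtain ⟨a, ha⟩ := hy i
    obtain ⟨b, hb⟩ := mem_stdLat.1 hx i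
    exact Submodule.mem_one.2 ⟨b * a, by rw [map_mul, ha, hb]⟩

theorem span_stdLat (n : ℕ) : Submodule.span K (stdLat O K n : Set (Fin n → K)) = ⊤ := by
  classical
  refine eq_top_iff.2 fun z _ => ?_
  rw [show z = ∑ i, z i • (Pi.single i 1 : Fin n → K) from funext fun j => by simp [Finset.sum_apply, Pi.single_apply]]
  exact sum_mem fun i _ => Submodule.smul_mem _ _ (Submodule.subset_span (single_mem_stdLat i))

theorem isLat_stdLat (n : ℕ) : IsLat (stdLat O K n) :=
  ⟨Submodule.fg_pi fun _ => Submodule.one_eq_span (R := O) (A := K) ▸ Submodule.fg_span_singleton _, span_stdLat n⟩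

theorem isLat_normLat (hfin : Module.Finite O (integralClosure O K)) (n : ℕ) : IsLat (normLat O K n) :=
  ⟨Submodule.fg_pi fun _ => Module.Finite.iff_fg.1 (show Module.Finite O (Subalgebra.toSubmodule (integralClosure O K)) from hfin),
    eq_top_iff.2 ((span_stdLat (O := O) (K := K) n).ge.trans (Submodule.span_mono (stdLat_le_normLat n)))⟩

variable [IsNoetherianRing O] [IsLocalRing O]

/-- reflexive normal form -/
theorem exists_reflexive_form [LocCoh.IsGorensteinLocalRing O] [IsAlgClosed (ResidueField O)]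
    (hdim : ringKrullDim O = 1) (hfin : Module.Finite O (integralClosure O K)) {n : ℕ}
    {L : Submodule O (Fin n → K)} (hL : IsLat L) :
    ∃ L'' : Submodule O (Fin n → K), condLat O K n ≤ L'' ∧ L'' ≤ stdLat O K n ∧ Nonempty (L ≃ₗ[O] L'') := by
  haveI := hasInjectiveDimensionLT_one' (O := O) (K := K) hdim
  have hone : (1 : Submodule O K) ≠ ⊥ := fun h =>
    one_ne_zero ((Submodule.mem_bot O).1 (h ▸ one_le_one' (O := O) (K := K)))
  have honefg : (1 : Submodule O K).FG := Submodule.one_eq_span (R := O) (A := K) ▸ Submodule.fg_span_singleton _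
  set D := dlat (1 : Submodule O K) L with hD
  have hDl : IsLat D := isLat_dlat _ hone honefg hL
  obtain ⟨g, h1, h2⟩ := exists_normal_form hdim hfin D hDl.1 hDl.2
  set M' := D.map (g.toLinearMap.restrictScalars O)
  refine ⟨dlat (1 : Submodule O K) M', (dlat_normLat n).ge.trans (dlat_anti _ h2),
    (dlat_anti _ h1).trans (dlat_stdLat n).le, ?_⟩
  have hspanM' : Submodule.span K (M' : Set (Fin n → K)) = ⊤ :=
    eq_top_iff.2 ((span_stdLat (O := O) (K := K) n).ge.trans (Submodule.span_mono h1))
  let e₁ := LinearEquiv.ofBijective _ (dlatHom_bijective (1 : Submodule O K) hspanM')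
  let e₂ := LinearEquiv.ofBijective _ (dlatHom_bijective (1 : Submodule O K) hDl.2)
  let eD : D ≃ₗ[O] M' := (g.restrictScalars O).submoduleMap D
  let e₃ : (D →ₗ[O] (1 : Submodule O K)) ≃ₗ[O] (M' →ₗ[O] (1 : Submodule O K)) :=
    LinearEquiv.congrLeft (1 : Submodule O K) O eD
  exact ⟨((LinearEquiv.ofEq _ _ (dlat_dlat hdim _ hone honefg hL).symm).trans (e₂.trans e₃)).trans e₁.symm⟩

end Groth.Agent.TFLoc
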