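import Mathlib

/-!
# Lattices over one-dimensional local domains with finite normalisation
-/

set_option autoImplicit false
universe u

open IsLocalRing

attribute [-instance] CStarMatrix.instHMulOfFintypeOfMulOfAddCommMonoid

namespace Groth.Agent.TFLoc

variable (O : Type u) [CommRing O] (K : Type u) [Field K] [Algebra O K]

/-- `O ^ n` inside `K ^ n` -/
abbrev stdLat (n : ℕ) : Submodule O (Fin n → K) :=
  Submodule.pi Set.univ fun _ : Fin n => (1 : Submodule O K)

/-- `O~ ^ n` inside `K ^ n` -/
abbrev normLat (n : ℕ) : Submodule O (Fin n → K) :=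
  Submodule.pi Set.univ fun _ : Fin n => Subalgebra.toSubmodule (integralClosure O K)

variable {O K}

theorem mem_stdLat {n : ℕ} {x : Fin n → K} : x ∈ stdLat O K n ↔ ∀ i, ∃ a : O, algebraMap O K a = x i := by
  simp [Submodule.mem_pi, Submodule.mem_one]

theorem mem_normLat {n : ℕ} {x : Fin n → K} : x ∈ normLat O K n ↔ ∀ i, x i ∈ integralClosure O K := by
  simp [Submodule.mem_pi]

theorem single_mem_stdLat {n : ℕ} (i : Fin n) : (Pi.single i 1 : Fin n → K) ∈ stdLat O K n :=
  mem_stdLat.2 fun j => by
    rcases eq_or_ne j i with rfl | h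
    · exact ⟨1, by simp⟩
    · exact ⟨0, by simp [h]⟩

theorem stdLat_le_normLat (n : ℕ) : stdLat O K n ≤ normLat O K n := fun _ hx => mem_normLat.2 fun i => by
  obtain ⟨a, ha⟩ := mem_stdLat.1 hx i
  exact ha ▸ (integralClosure O K).algebraMap_mem a

variable [IsDomain O] [IsFractionRing O K]

/-- clearing denominators of a vector -/
theorem exists_smul_mem_stdLat {n : ℕ} (x : Fin n → K) :
    ∃ d : O, d ≠ 0 ∧ d • x ∈ stdLat O K n := by
  classical
  obtain ⟨d, hd⟩ := IsLocalization.exist_integer_multiples (nonZeroDivisors O) Finset.univ x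
  exact ⟨d, nonZeroDivisors.ne_zero d.2, mem_stdLat.2 fun i => hd i (Finset.mem_univ i)⟩

/-- linear maps on lattices are restrictions of matrices -/
theorem apply_eq_mulVec {n m : ℕ} {M : Submodule O (Fin n → K)} (hM : stdLat O K n ≤ M)
    (φ : M →ₗ[O] (Fin m → K)) (x : M) :
    φ x = (Matrix.of fun i j => φ ⟨_, hM (single_mem_stdLat j)⟩ i).mulVec (x : Fin n → K) := by
  classical
  obtain ⟨d, hd0, hd⟩ := exists_smul_mem_stdLat (O := O) (x : Fin n → K)
  choose a ha using mem_stdLat.1 hd
  have hx : d • x = ∑ j, a j • (⟨_, hM (single_mem_stdLat j)⟩ : M) := by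
    refine Subtype.ext (funext fun i => ?_)
    simp only [Submodule.coe_smul_of_tower, Submodule.coe_sum, Finset.sum_apply]
    rw [Finset.sum_eq_single i (fun j _ hj => by simp [Pi.single_eq_of_ne (Ne.symm hj)]) (by simp)]
    simp [← Algebra.algebraMap_eq_smul_one, ha]
  have hinj : Function.Injective fun y : Fin m → K => d • y := fun y z h => funext fun i => by
    have := congrFun h i
    simp only [Pi.smul_apply, Algebra.smul_def] at this
    exact mul_left_cancel₀ ((map_ne_zero_iff _ (IsFractionRing.injective O K)).2 hd0) this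
  refine hinj ?_
  simp only
  rw [← map_smul, hx, map_sum]
  funext i
  simp only [Finset.sum_apply, Pi.smul_apply, map_smul, Matrix.mulVec, dotProduct, Matrix.of_apply, Finset.smul_sum]
  refine Finset.sum_congr rfl fun j _ => ?_
  rw [Algebra.smul_def, Algebra.smul_def, ha j]
  simp only [Pi.smul_apply, Algebra.smul_def]
  ring

section Setup

variable [IsNoetherianRing O] [IsLocalRing O]

theorem isFractionRing_normalization : IsFractionRing (integralClosure O K) K :=
  integralClosure.isFractionRing_of_finite_extension K K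

theorem isDedekindDomain_normalization (hdim : ringKrullDim O = 1)
    (hfin : Module.Finite O (integralClosure O K)) : IsDedekindDomain (integralClosure O K) := by
  haveI := hfin
  haveI := isFractionRing_normalization (O := O) (K := K)
  haveI : IsNoetherianRing (integralClosure O K) := IsNoetherianRing.of_finite O (integralClosure O K)
  haveI : Ring.KrullDimLE 1 O := (Order.krullDimLE_iff _ _).2 hdim.le
  haveI : Ring.DimensionLEOne O :=
    ⟨fun {P} h0 hP => ((Ring.krullDimLE_one_iff_of_noZeroDivisors).1 inferInstance) P h0 hP⟩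
  exact (isDedekindDomain_iff (integralClosure O K) K).2
    ⟨inferInstance, inferInstance, inferInstance, fun {x} hx => ⟨⟨x, isIntegral_trans x hx⟩, rfl⟩⟩

theorem maximalIdeal_ne_bot (hdim : ringKrullDim O = 1) : maximalIdeal O ≠ ⊥ := fun h => by
  have h' := IsLocalRing.maximalIdeal_height_eq_ringKrullDim (R := O)
  rw [h, Ideal.height_bot, hdim] at h'
  exact absurd h' (by simp)

omit [IsDomain O] [IsFractionRing O K] [IsNoetherianRing O] in
theorem comap_maximal (P : Ideal (integralClosure O K)) [P.IsMaximal] :
    P.comap (algebraMap O (integralClosure O K)) = maximalIdeal O :=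
  IsLocalRing.eq_maximalIdeal (Ideal.isMaximal_comap_of_isIntegral_of_isMaximal P)

theorem finite_maximals (hdim : ringKrullDim O = 1) (hfin : Module.Finite O (integralClosure O K)) :
    {P : Ideal (integralClosure O K) | P.IsMaximal}.Finite := by
  haveI := hfin
  haveI : IsNoetherianRing (integralClosure O K) := IsNoetherianRing.of_finite O (integralClosure O K)
  haveI := isDedekindDomain_normalization hdim hfin
  have hinj : Function.Injective (algebraMap O (integralClosure O K)) := fun a b h =>
    IsFractionRing.injective O K (congrArg Subtype.val h)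
  have hI0 : (maximalIdeal O).map (algebraMap O (integralClosure O K)) ≠ ⊥ := fun h =>
    maximalIdeal_ne_bot hdim ((Ideal.map_eq_bot_iff_of_injective hinj).1 h)
  refine (Ideal.finite_minimalPrimes_of_isNoetherianRing (integralClosure O K)
    ((maximalIdeal O).map (algebraMap O (integralClosure O K)))).subset fun P hP =>
      ⟨⟨hP.isPrime, ?_⟩, fun Q hQ hQP => ?_⟩
  · haveI : P.IsMaximal := hP
    exact Ideal.map_le_iff_le_comap.2 (comap_maximal P).ge
  · exact ((hQ.1.isMaximal fun h => hI0 (le_bot_iff.1 (h ▸ hQ.2))).eq_of_le hP.ne_top hQP).ge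

theorem isPrincipalIdealRing_normalization (hdim : ringKrullDim O = 1)
    (hfin : Module.Finite O (integralClosure O K)) : IsPrincipalIdealRing (integralClosure O K) := by
  haveI := isDedekindDomain_normalization hdim hfin
  exact IsPrincipalIdealRing.of_finite_maximals (finite_maximals hdim hfin)

omit [IsDomain O] [IsFractionRing O K] [IsNoetherianRing O] in
theorem surjective_residue_normalization [IsAlgClosed (ResidueField O)] (P : Ideal (integralClosure O K))
    [hP : P.IsMaximal] :
    Function.Surjective ((Ideal.Quotient.mk P).comp (algebraMap O (integralClosure O K))) := by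
  letI : Field (integralClosure O K ⧸ P) := Ideal.Quotient.field P
  let f : ResidueField O →+* integralClosure O K ⧸ P :=
    Ideal.Quotient.lift (maximalIdeal O) ((Ideal.Quotient.mk P).comp (algebraMap O (integralClosure O K)))
      fun a ha => Ideal.Quotient.eq_zero_iff_mem.2 (show a ∈ P.comap (algebraMap O _) by rwa [comap_maximal P])
  letI : Algebra (ResidueField O) (integralClosure O K ⧸ P) := f.toAlgebra
  haveI : IsScalarTower O (ResidueField O) (integralClosure O K ⧸ P) :=
    IsScalarTower.of_algebraMap_eq fun _ => rfl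
  haveI : Algebra.IsIntegral (ResidueField O) (integralClosure O K ⧸ P) :=
    ⟨fun x => (Algebra.IsIntegral.isIntegral (R := O) x).tower_top⟩
  intro x
  obtain ⟨r, rfl⟩ := IsAlgClosed.algebraMap_bijective_of_isIntegral (k := ResidueField O)
    (K := integralClosure O K ⧸ P) |>.2 x
  obtain ⟨r, rfl⟩ := residue_surjective r
  exact ⟨r, rfl⟩

end Setup

section Normal

variable [IsNoetherianRing O] [IsLocalRing O]

open Matrix in
/-- vectors spanning `O~ ^ n` contain, up to `O`-combinations, a basis of it -/
theorem exists_unit_det [IsAlgClosed (ResidueField O)] (hdim : ringKrullDim O = 1)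
    (hfin : Module.Finite O (integralClosure O K)) {n r : ℕ} (G : Matrix (Fin n) (Fin r) (integralClosure O K))
    (H : Matrix (Fin r) (Fin n) (integralClosure O K)) (hGH : G * H = 1) :
    ∃ Λ : Matrix (Fin r) (Fin n) O, IsUnit (G * Λ.map (algebraMap O (integralClosure O K))).det := by
  classical
  haveI : Infinite (ResidueField O) := IsAlgClosed.instInfinite
  let C := integralClosure O K
  let S := (finite_maximals (K := K) hdim hfin).toFinset
  have hS : ∀ P ∈ S, P.IsMaximal := fun P hP => (Set.Finite.mem_toFinset _).1 hP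
  have key : ∀ P ∈ S, ∃ D : MvPolynomial (Fin r × Fin n) (ResidueField O), D ≠ 0 ∧
      ∀ Λ : Matrix (Fin r) (Fin n) O, MvPolynomial.eval (fun x => residue O (Λ x.1 x.2)) D ≠ 0 →
        (G * Λ.map (algebraMap O C)).det ∉ P := by
    intro P hP
    haveI := hS P hP
    letI : Field (C ⧸ P) := Ideal.Quotient.field P
    let f : ResidueField O →+* C ⧸ P :=
      Ideal.Quotient.lift (maximalIdeal O) ((Ideal.Quotient.mk P).comp (algebraMap O C))
        fun a ha => Ideal.Quotient.eq_zero_iff_mem.2 (show a ∈ P.comap (algebraMap O _) by rwa [comap_maximal P])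
    have hf : Function.Surjective f := fun x => by
      obtain ⟨a, rfl⟩ := surjective_residue_normalization P x
      exact ⟨residue O a, rfl⟩
    let e : ResidueField O ≃+* C ⧸ P := RingEquiv.ofBijective f ⟨f.injective, hf⟩
    let g : C →+* ResidueField O := e.symm.toRingHom.comp (Ideal.Quotient.mk P)
    have hg : ∀ a : O, g (algebraMap O C a) = residue O a := fun a => e.symm_apply_apply (residue O a)
    let X : Matrix (Fin r) (Fin n) (MvPolynomial (Fin r × Fin n) (ResidueField O)) :=
      Matrix.of fun l j => MvPolynomial.X (l, j)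
    let D := ((G.map (MvPolynomial.C.comp g) * X : Matrix (Fin n) (Fin n) (MvPolynomial (Fin r × Fin n) (ResidueField O)))).det
    have heval : ∀ v : Fin r × Fin n → ResidueField O,
        MvPolynomial.eval v D = (G.map g * Matrix.of fun l j => v (l, j)).det := by
      intro v
      simp only [D]
      rw [RingHom.map_det, RingHom.mapMatrix_apply]
      congr 1
      ext i j
      change MvPolynomial.eval v (Matrix.of (fun i j => ∑ l, (MvPolynomial.C (g (G i l))) * MvPolynomial.X (l, j)) i j) = ∑ l, g (G i l) * v (l, j)
      simp [map_sum]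
    refine ⟨D, fun h0 => ?_, fun Λ hΛ hmem => hΛ ?_⟩
    · have h1 := heval fun x => g (H x.1 x.2)
      rw [h0, map_zero, show (Matrix.of fun l j => g (H (l, j).1 (l, j).2)) = H.map g from rfl,
        ← Matrix.map_mul, hGH, Matrix.map_one _ (map_zero g) (map_one g), Matrix.det_one] at h1
      exact zero_ne_one h1
    · rw [heval, show (Matrix.of fun l j => residue O (Λ (l, j).1 (l, j).2)) =
        (Λ.map (algebraMap O C)).map g by ext l j; exact (hg _).symm,
        ← Matrix.map_mul, ← RingHom.mapMatrix_apply, ← RingHom.map_det]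
      simp only [g, RingHom.comp_apply, Ideal.Quotient.eq_zero_iff_mem.2 hmem, map_zero]
  choose! D hD0 hD using key
  have hprod : ∏ P ∈ S, D P ≠ 0 := Finset.prod_ne_zero_iff.2 hD0
  obtain ⟨v, hv⟩ : ∃ v, MvPolynomial.eval v (∏ P ∈ S, D P) ≠ 0 := by
    by_contra hh
    push Not at hh
    exact hprod (MvPolynomial.funext fun v => by rw [hh v, map_zero])
  choose w hw using fun x : Fin r × Fin n => residue_surjective (v x)
  refine ⟨Matrix.of fun l j => w (l, j), ?_⟩
  by_contra hnu
  obtain ⟨P, hP, hmem⟩ := exists_max_ideal_of_mem_nonunits hnu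
  have hPS : P ∈ S := (Set.Finite.mem_toFinset _).2 hP
  refine hD P hPS _ ?_ hmem
  rw [map_prod, Finset.prod_ne_zero_iff] at hv
  have := hv P hPS
  rwa [show (fun x : Fin r × Fin n => residue O ((Matrix.of fun l j => w (l, j)) x.1 x.2)) = v from
    funext fun x => hw x]

end Normal

end Groth.Agent.TFLoc
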