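import Groth.Agent.TFLoc.ExtVan

/-!
# Duality of lattices with respect to a canonical ideal
-/

set_option autoImplicit false
universe u

open IsLocalRing CategoryTheory

namespace Groth.Agent.TFLoc

variable {O : Type u} [CommRing O] {K : Type u} [Field K] [Algebra O K]

/-- full finitely generated lattices -/
def IsLat {n : ℕ} (L : Submodule O (Fin n → K)) : Prop :=
  L.FG ∧ Submodule.span K (L : Set (Fin n → K)) = ⊤

/-- the dual lattice -/
def dlat (ω : Submodule O K) {n : ℕ} (L : Submodule O (Fin n → K)) : Submodule O (Fin n → K) where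
  carrier := {y | ∀ x ∈ L, dotProduct x y ∈ ω}
  add_mem' := fun {a b} ha hb x hx => by
    change dotProduct x (a + b) ∈ ω
    rw [dotProduct_add]; exact add_mem (ha x hx) (hb x hx)
  zero_mem' := fun x _ => by simp
  smul_mem' := fun r y hy x hx => by
    change dotProduct x (r • y) ∈ ω
    rw [dotProduct_smul]; exact ω.smul_mem r (hy x hx)

theorem mem_dlat {ω : Submodule O K} {n : ℕ} {L : Submodule O (Fin n → K)} {y : Fin n → K} :
    y ∈ dlat ω L ↔ ∀ x ∈ L, dotProduct x y ∈ ω := Iff.rfl

theorem dlat_anti (ω : Submodule O K) {n : ℕ} {A B : Submodule O (Fin n → K)} (h : A ≤ B) :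
    dlat ω B ≤ dlat ω A := fun _ hy x hx => hy x (h hx)

theorem le_dlat_dlat (ω : Submodule O K) {n : ℕ} (L : Submodule O (Fin n → K)) : L ≤ dlat ω (dlat ω L) :=
  fun x hx y hy => by rw [dotProduct_comm]; exact hy x hx

theorem mem_dlat_span {ω : Submodule O K} {n : ℕ} {s : Set (Fin n → K)} {y : Fin n → K}
    (h : ∀ x ∈ s, dotProduct x y ∈ ω) : y ∈ dlat ω (Submodule.span O s) := fun x hx => by
  induction hx using Submodule.span_induction with
  | mem z hz => exact h z hz
  | zero => simp
  | add a b _ _ ha hb => rw [add_dotProduct]; exact add_mem ha hb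
  | smul r a _ ha => rw [smul_dotProduct]; exact ω.smul_mem r ha

theorem eq_zero_of_dot {n : ℕ} {L : Submodule O (Fin n → K)} (hL : Submodule.span K (L : Set (Fin n → K)) = ⊤)
    {z : Fin n → K} (h : ∀ x ∈ L, dotProduct x z = 0) : z = 0 := by
  classical
  funext i
  have hmem : (Pi.single i 1 : Fin n → K) ∈ Submodule.span K (L : Set (Fin n → K)) := hL ▸ Submodule.mem_top
  have key : ∀ x ∈ Submodule.span K (L : Set (Fin n → K)), dotProduct x z = 0 := fun x hx => by
    induction hx using Submodule.span_induction with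
    | mem w hw => exact h w hw
    | zero => simp
    | add a b _ _ ha hb => rw [add_dotProduct, ha, hb, add_zero]
    | smul r a _ ha => rw [smul_dotProduct, ha, smul_zero]
  simpa using key _ hmem

variable [IsDomain O] [IsFractionRing O K] [IsNoetherianRing O] [IsLocalRing O]

/-- a nontrivial finite overmodule has an element killed into the module by the maximal ideal -/
theorem exists_socle (hdim : ringKrullDim O = 1) {V : Type u} [AddCommGroup V] [Module O V]
    {A B : Submodule O V} (hB : B.FG) (h : ¬ B ≤ A) (htor : ∀ b ∈ B, ∃ a : O, a ≠ 0 ∧ a • b ∈ A) :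
    ∃ y ∈ B, y ∉ A ∧ ∀ m ∈ maximalIdeal O, m • y ∈ A := by
  classical
  haveI : Module.Finite O B := Module.Finite.iff_fg.2 hB
  let Q := B ⧸ A.comap B.subtype
  haveI : Nontrivial Q := by
    obtain ⟨b, hb, hbA⟩ := SetLike.not_le_iff_exists.1 h
    exact ⟨Submodule.Quotient.mk ⟨b, hb⟩, 0, fun e => hbA ((Submodule.Quotient.mk_eq_zero (A.comap B.subtype)).1 e :)⟩
  obtain ⟨p, hp⟩ := associatedPrimes.nonempty O Q
  obtain ⟨hpp, z, hz⟩ := isAssociatedPrime_iff.1 hp
  obtain ⟨⟨y, hy⟩, rfl⟩ := Submodule.Quotient.mk_surjective _ z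
  have hmem : ∀ a : O, a ∈ p ↔ a • y ∈ A := fun a => by
    rw [hz, Submodule.mem_colon_singleton, Submodule.mem_bot, ← Submodule.Quotient.mk_smul,
      Submodule.Quotient.mk_eq_zero]
    rfl
  obtain ⟨a, ha0, ha⟩ := htor y hy
  have hpm : p = maximalIdeal O := by
    haveI : Ring.KrullDimLE 1 O := (Order.krullDimLE_iff _ _).2 hdim.le
    refine IsLocalRing.eq_maximalIdeal (((Ring.krullDimLE_one_iff_of_noZeroDivisors).1 inferInstance) p ?_ hpp)
    exact fun e => ha0 ((Ideal.mem_bot).1 (e ▸ (hmem a).2 ha))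
  refine ⟨y, hy, fun hyA => hpp.ne_top ((Ideal.eq_top_iff_one p).2 ((hmem 1).2 (by rwa [one_smul]))), fun m hm => ?_⟩
  exact (hmem m).1 (hpm ▸ hm)

theorem exists_denom (z : K) : ∃ a : O, a ≠ 0 ∧ ∃ b : O, a • z = algebraMap O K b := by
  obtain ⟨b, a, ha, rfl⟩ := IsFractionRing.div_surjective O z
  refine ⟨a, nonZeroDivisors.ne_zero ha, b, ?_⟩
  rw [Algebra.smul_def, mul_div_cancel₀ _ (IsFractionRing.to_map_ne_zero_of_mem_nonZeroDivisors ha)]

theorem smul_inj_K {a : O} (ha : a ≠ 0) {x y : K} (h : a • x = a • y) : x = y := by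
  rw [Algebra.smul_def, Algebra.smul_def] at h
  exact mul_left_cancel₀ ((map_ne_zero_iff _ (IsFractionRing.injective O K)).2 ha) h

/-- a canonical ideal has no endomorphisms but the scalars -/
theorem mul_mem_imp (hdim : ringKrullDim O = 1) (ω : Submodule O K) (hω0 : ω ≠ ⊥) (hωfg : ω.FG)
    [HasInjectiveDimensionLT (ModuleCat.of O ω) 2] {x : K} (hx : ∀ w ∈ ω, x * w ∈ ω) :
    ∃ a : O, algebraMap O K a = x := by
  classical
  obtain ⟨w₀, hw₀, hw0⟩ := Submodule.exists_mem_ne_zero_of_ne_bot hω0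
  let E : Submodule O K :=
    { carrier := {x | ∀ w ∈ ω, x * w ∈ ω}
      add_mem' := fun {a b} ha hb w hw => by rw [add_mul]; exact add_mem (ha w hw) (hb w hw)
      zero_mem' := fun w _ => by simp
      smul_mem' := fun r a ha w hw => by rw [smul_mul_assoc]; exact ω.smul_mem r (ha w hw) }
  have hEfg : E.FG := by
    haveI : Module.Finite O ω := Module.Finite.iff_fg.2 hωfg
    let μ : E →ₗ[O] ω := (LinearMap.mulRight O w₀ ∘ₗ E.subtype).codRestrict ω fun e => e.2 w₀ hw₀
    have hμ : Function.Injective μ := fun a b h => Subtype.ext (mul_right_cancel₀ hw0 (congrArg Subtype.val h))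
    exact Module.Finite.iff_fg.1 (Module.Finite.of_injective μ hμ)
  by_contra hcon
  push Not at hcon
  have hnle : ¬ E ≤ (1 : Submodule O K) := fun h => by
    obtain ⟨a, ha⟩ := Submodule.mem_one.1 (h hx)
    exact hcon a ha
  obtain ⟨y, hyE, hy1, hym⟩ := exists_socle hdim hEfg hnle fun b _ => by
    obtain ⟨a, ha, c, hc⟩ := exists_denom (O := O) b
    exact ⟨a, ha, Submodule.mem_one.2 ⟨c, hc.symm⟩⟩
  -- an element of the fraction field carried into `ω` by the maximal ideal
  obtain ⟨t, htm, ht0⟩ := Submodule.exists_mem_ne_zero_of_ne_bot (maximalIdeal_ne_bot hdim)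
  let B : Submodule O K := ω.map (LinearMap.mulLeft O ((algebraMap O K t)⁻¹))
  have htK : algebraMap O K t ≠ 0 := (map_ne_zero_iff _ (IsFractionRing.injective O K)).2 ht0
  have hnleB : ¬ B ≤ ω := by
    intro h
    have hle : ω ≤ maximalIdeal O • ω := fun w hw => by
      have hw' := h ⟨w, hw, rfl⟩
      rw [show w = t • ((algebraMap O K t)⁻¹ * w) by rw [Algebra.smul_def, mul_inv_cancel_left₀ htK]]
      exact Submodule.smul_mem_smul htm hw'
    exact hω0 (Submodule.eq_bot_of_le_smul_of_le_jacobson_bot (maximalIdeal O) ω hωfg hle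
      (IsLocalRing.maximalIdeal_le_jacobson _))
  obtain ⟨v, -, hvω, hvm⟩ := exists_socle hdim (hωfg.map _) hnleB fun b hb => by
    obtain ⟨w, hw, rfl⟩ := hb
    refine ⟨t, ht0, ?_⟩
    rw [LinearMap.mulLeft_apply, Algebra.smul_def, mul_inv_cancel_left₀ htK]
    exact hw
  -- the relations of `1` and `y`
  let Φ : (O × O) →ₗ[O] K := (LinearMap.toSpanSingleton O K 1).coprod (LinearMap.toSpanSingleton O K y)
  let P := LinearMap.ker Φ
  have hsnd : ∀ z : P, (z : O × O).2 ∈ maximalIdeal O := by
    rintro ⟨⟨a, b⟩, hz⟩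
    by_contra hb
    have hbu : IsUnit b := by_contra fun h => hb h
    obtain ⟨c, hc⟩ := hbu.exists_left_inv
    refine hy1 (Submodule.mem_one.2 ⟨-(c * a), ?_⟩)
    have hz' : a • (1 : K) + b • y = 0 := hz
    have h2 : c • (a • (1 : K) + b • y) = 0 := by rw [hz', smul_zero]
    rw [smul_add, smul_smul, smul_smul, hc, one_smul, ← Algebra.algebraMap_eq_smul_one] at h2
    rw [map_neg]
    exact (eq_neg_of_add_eq_zero_right h2).symm
  let f : P →ₗ[O] ω := ((LinearMap.toSpanSingleton O K v) ∘ₗ LinearMap.snd O O O ∘ₗ P.subtype).codRestrict ω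
    fun z => hvm _ (hsnd z)
  obtain ⟨g, hg⟩ := exists_extend ω K P (fun a q ha haq => by
    have h1 : a • Φ q = a • (0 : K) := by rw [smul_zero, ← map_smul]; exact haq
    exact smul_inj_K ha h1) f
  refine hvω ?_
  obtain ⟨c, hc⟩ := Submodule.mem_one.1 (hym t htm)
  let q : P := ⟨(-c, t), by
    change (-c) • (1 : K) + t • y = 0
    rw [← hc, neg_smul, ← Algebra.algebraMap_eq_smul_one, neg_add_cancel]⟩
  have h1 : (g (-c, t) : K) = t • v := congrArg Subtype.val (LinearMap.congr_fun hg q)
  have h2 : (g (-c, t) : K) = (-c) • (g (1, 0) : K) + t • (g (0, 1) : K) := by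
    rw [show ((-c, t) : O × O) = (-c) • (1, 0) + t • (0, 1) by simp, map_add, map_smul, map_smul]
    rfl
  have h3 : t • v = t • ((g (0, 1) : K) - y * (g (1, 0) : K)) := by
    rw [← h1, h2, smul_sub, neg_smul, ← smul_mul_assoc, ← hc, ← Algebra.smul_def]
    ring
  rw [smul_inj_K ht0 h3]
  exact sub_mem (g (0, 1)).2 (hyE _ (g (1, 0)).2)

/-- functionals on `ω ^ r` are linear combinations -/
theorem exists_coeff (hdim : ringKrullDim O = 1) (ω : Submodule O K) (hω0 : ω ≠ ⊥) (hωfg : ω.FG)
    [HasInjectiveDimensionLT (ModuleCat.of O ω) 2] (φ : ω →ₗ[O] ω) : ∃ a : O, ∀ w : ω, φ w = a • w := by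
  obtain ⟨w₀, hw₀, hw0⟩ := Submodule.exists_mem_ne_zero_of_ne_bot hω0
  set x : K := (φ ⟨w₀, hw₀⟩ : K) / w₀
  have key : ∀ w : ω, (φ w : K) = x * w := by
    intro w
    obtain ⟨a, ha, b, hb⟩ := exists_denom (O := O) ((w : K) / w₀)
    have e : a • w = b • (⟨w₀, hw₀⟩ : ω) := Subtype.ext (by
      simp only [Submodule.coe_smul_of_tower]
      rw [Algebra.smul_def b, ← hb, smul_mul_assoc, div_mul_cancel₀ _ hw0])
    have e' := congrArg (fun z => (φ z : K)) e
    simp only [map_smul, Submodule.coe_smul_of_tower] at e'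
    refine smul_inj_K ha ?_
    rw [e', Algebra.smul_def b, ← hb, smul_mul_assoc, div_mul_eq_mul_div]
    congr 1
    simp only [x]
    ring
  obtain ⟨a, ha⟩ := mul_mem_imp hdim ω hω0 hωfg (x := x) fun w hw => key ⟨w, hw⟩ ▸ (φ ⟨w, hw⟩).2
  exact ⟨a, fun w => Subtype.ext (by rw [key, Submodule.coe_smul_of_tower, Algebra.smul_def, ha])⟩

/-- dual lattices are lattices -/
theorem isLat_dlat (ω : Submodule O K) (hω0 : ω ≠ ⊥) (hωfg : ω.FG) {n : ℕ} {L : Submodule O (Fin n → K)}
    (hL : IsLat L) : IsLat (dlat ω L) := by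
  classical
  obtain ⟨⟨s, rfl⟩, hspan⟩ := hL
  refine ⟨?_, eq_top_iff.2 fun z _ => ?_⟩
  · haveI : Module.Finite O ω := Module.Finite.iff_fg.2 hωfg
    let ψ : dlat ω (Submodule.span O (s : Set (Fin n → K))) →ₗ[O] (s → ω) :=
      { toFun := fun y x => ⟨dotProduct (x : Fin n → K) y, y.2 _ (Submodule.subset_span x.2)⟩
        map_add' := fun a b => funext fun x => Subtype.ext (by simp [dotProduct_add])
        map_smul' := fun r a => funext fun x => Subtype.ext (by simp [dotProduct_smul]) }
    have hψ : Function.Injective ψ := fun a b h => Subtype.ext (sub_eq_zero.1 (eq_zero_of_dot hspan fun x hx => by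
      induction hx using Submodule.span_induction with
      | mem w hw => rw [dotProduct_sub, sub_eq_zero]; exact congrArg Subtype.val (congrFun h ⟨w, hw⟩)
      | zero => simp
      | add u w _ _ hu hw => rw [add_dotProduct, hu, hw, add_zero]
      | smul r u _ hu => rw [smul_dotProduct, hu, smul_zero]))
    exact Module.Finite.iff_fg.1 (Module.Finite.of_injective ψ hψ)
  · obtain ⟨w₀, hw₀, hw0⟩ := Submodule.exists_mem_ne_zero_of_ne_bot hω0
    have h1 : ∀ i : Fin n, (Pi.single i 1 : Fin n → K) ∈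
        Submodule.span K (dlat ω (Submodule.span O (s : Set (Fin n → K))) : Set (Fin n → K)) := by
      intro i
      obtain ⟨d, hd⟩ := IsLocalization.exist_integer_multiples (nonZeroDivisors O) s fun x => x i
      have hd0 : algebraMap O K (d : O) ≠ 0 := IsFractionRing.to_map_ne_zero_of_mem_nonZeroDivisors d.2
      have hmem : (Pi.single i (algebraMap O K (d : O) * w₀) : Fin n → K) ∈
          dlat ω (Submodule.span O (s : Set (Fin n → K))) := by
        refine mem_dlat_span fun x hx => ?_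
        obtain ⟨b, hb⟩ := hd x hx
        have hb' : algebraMap O K b = algebraMap O K (d : O) * x i := by rw [hb, Algebra.smul_def]
        rw [dotProduct_single, show x i * (algebraMap O K (d : O) * w₀) = b • w₀ by rw [Algebra.smul_def, hb']; ring]
        exact ω.smul_mem b hw₀
      have e : (Pi.single i 1 : Fin n → K) = (algebraMap O K (d : O) * w₀)⁻¹ •
          (Pi.single i (algebraMap O K (d : O) * w₀) : Fin n → K) := by
        rw [← Pi.single_smul, smul_eq_mul, inv_mul_cancel₀ (mul_ne_zero hd0 hw0)]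
      rw [e]
      exact Submodule.smul_mem _ _ (Submodule.subset_span hmem)
    rw [show z = ∑ i, z i • (Pi.single i 1 : Fin n → K) from
      funext fun j => by simp [Finset.sum_apply, Pi.single_apply]]
    exact sum_mem fun i _ => Submodule.smul_mem _ _ (h1 i)

/-- biduality -/
theorem dlat_dlat (hdim : ringKrullDim O = 1) (ω : Submodule O K) (hω0 : ω ≠ ⊥) (hωfg : ω.FG)
    [HasInjectiveDimensionLT (ModuleCat.of O ω) 2] {n : ℕ} {L : Submodule O (Fin n → K)} (hL : IsLat L) :
    dlat ω (dlat ω L) = L := by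
  classical
  refine le_antisymm (fun z hz => ?_) (le_dlat_dlat ω L)
  have hD := isLat_dlat ω hω0 hωfg hL
  obtain ⟨⟨s, rfl⟩, hspan⟩ := hL
  set D := dlat ω (Submodule.span O (s : Set (Fin n → K))) with hDdef
  haveI : Module.Finite O ω := Module.Finite.iff_fg.2 hωfg
  let ψ : D →ₗ[O] (s → ω) :=
    { toFun := fun y x => ⟨dotProduct (x : Fin n → K) y, y.2 _ (Submodule.subset_span x.2)⟩
      map_add' := fun a b => funext fun x => Subtype.ext (by simp [dotProduct_add])
      map_smul' := fun r a => funext fun x => Subtype.ext (by simp [dotProduct_smul]) }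
  have hψ : Function.Injective ψ := fun a b h => Subtype.ext (sub_eq_zero.1 (eq_zero_of_dot hspan fun x hx => by
    induction hx using Submodule.span_induction with
    | mem w hw => rw [dotProduct_sub, sub_eq_zero]; exact congrArg Subtype.val (congrFun h ⟨w, hw⟩)
    | zero => simp
    | add u w _ _ hu hw => rw [add_dotProduct, hu, hw, add_zero]
    | smul r u _ hu => rw [smul_dotProduct, hu, smul_zero]))
  let f : D →ₗ[O] ω :=
    { toFun := fun y => ⟨dotProduct z (y : Fin n → K), by rw [dotProduct_comm]; exact hz y y.2⟩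
      map_add' := fun a b => Subtype.ext (by simp [dotProduct_add])
      map_smul' := fun r a => Subtype.ext (by simp [dotProduct_smul]) }
  let e := LinearEquiv.ofInjective ψ hψ
  obtain ⟨g, hg⟩ := exists_extend ω K (LinearMap.range ψ) (fun a q ha haq => by
    obtain ⟨y, hy⟩ := haq
    refine ⟨⟨(algebraMap O K a)⁻¹ • (y : Fin n → K), mem_dlat_span fun x hx => ?_⟩, ?_⟩
    · rw [dotProduct_smul, show dotProduct x (y : Fin n → K) = a • ((q ⟨x, hx⟩ : ω) : K) from
        congrArg Subtype.val (congrFun hy ⟨x, hx⟩), smul_eq_mul, Algebra.smul_def,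
        inv_mul_cancel_left₀ ((map_ne_zero_iff _ (IsFractionRing.injective O K)).2 ha)]
      exact (q ⟨x, hx⟩).2
    · funext x
      refine Subtype.ext ?_
      change dotProduct (x : Fin n → K) ((algebraMap O K a)⁻¹ • (y : Fin n → K)) = _
      rw [dotProduct_smul, show dotProduct (x : Fin n → K) (y : Fin n → K) = a • ((q x : ω) : K) from
        congrArg Subtype.val (congrFun hy x), smul_eq_mul, Algebra.smul_def,
        inv_mul_cancel_left₀ ((map_ne_zero_iff _ (IsFractionRing.injective O K)).2 ha)])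
    (f ∘ₗ e.symm.toLinearMap)
  choose a ha using fun x : s => exists_coeff hdim ω hω0 hωfg (g ∘ₗ LinearMap.single O (fun _ : s => ω) x)
  have hzeq : z = ∑ x : s, a x • (x : Fin n → K) := by
    refine sub_eq_zero.1 (eq_zero_of_dot hD.2 fun y hy => ?_)
    have h1 : (f ⟨y, hy⟩ : K) = (g (ψ ⟨y, hy⟩) : K) := by
      have := LinearMap.congr_fun hg ⟨_, LinearMap.mem_range_self ψ ⟨y, hy⟩⟩
      refine congrArg Subtype.val (Eq.symm ?_)
      refine this.trans ?_
      change f (e.symm ⟨_, _⟩) = _
      congr 1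
      exact e.symm_apply_apply ⟨y, hy⟩
    have h2 : g (ψ ⟨y, hy⟩) = ∑ x : s, a x • ψ ⟨y, hy⟩ x := by
      conv_lhs => rw [show ψ ⟨y, hy⟩ = ∑ x : s, LinearMap.single O (fun _ : s => ω) x (ψ ⟨y, hy⟩ x) from
        funext fun x => by simp [Finset.sum_apply, Pi.single_apply]]
      rw [map_sum]
      exact Finset.sum_congr rfl fun x _ => ha x _
    rw [h2, Submodule.coe_sum] at h1
    rw [dotProduct_sub, dotProduct_comm, show dotProduct z y = (f ⟨y, hy⟩ : K) from rfl, h1, dotProduct_sum,
      sub_eq_zero]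
    refine Finset.sum_congr rfl fun x _ => ?_
    rw [dotProduct_smul, dotProduct_comm]
    rfl
  rw [hzeq]
  exact sum_mem fun x _ => Submodule.smul_mem _ _ (Submodule.subset_span x.2)

end Groth.Agent.TFLoc
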