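import Groth.Agent.TFLoc.Dual
import Groth.Agent.Gor.Basic

/-!
# Homomorphisms and lengths under duality
-/

set_option autoImplicit false
universe u

open IsLocalRing CategoryTheory

namespace Groth.Agent.TFLoc

variable {O : Type u} [CommRing O] {K : Type u} [Field K] [Algebra O K]

/-- the quotient length of nested submodules -/
noncomputable def lenQ {V : Type u} [AddCommGroup V] [Module O V] (A B : Submodule O V) : ℕ∞ :=
  Module.length O (B ⧸ A.comap B.subtype)

theorem coe_lenQ {V : Type u} [AddCommGroup V] [Module O V] {A B : Submodule O V} (h : A ≤ B) :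
    (lenQ A B : WithBot ℕ∞) = Order.krullDim (Set.Icc A B) := by
  rw [lenQ, Module.coe_length]
  refine Order.krullDim_eq_of_orderIso ((Submodule.comapMkQRelIso _).trans ?_)
  exact
    { toFun := fun N => ⟨N.1.map B.subtype, fun x hx => ⟨⟨x, h hx⟩, N.2 hx, rfl⟩, Submodule.map_subtype_le B _⟩
      invFun := fun N => ⟨N.1.comap B.subtype, fun _ hx => N.2.1 hx⟩
      left_inv := fun N => Subtype.ext (Submodule.comap_map_eq_of_injective Subtype.val_injective _)
      right_inv := fun N => Subtype.ext (by
        change Submodule.map B.subtype (Submodule.comap B.subtype N.1) = N.1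
        rw [Submodule.map_comap_eq, Submodule.range_subtype, inf_eq_right.2 N.2.2])
      map_rel_iff' := fun {N N'} => Submodule.map_le_map_iff_of_injective Subtype.val_injective _ _ }

theorem lenQ_add {V : Type u} [AddCommGroup V] [Module O V] {A B C : Submodule O V} (h₁ : A ≤ B) (h₂ : B ≤ C) :
    lenQ A C = lenQ A B + lenQ B C := by
  have hf : A.comap B.subtype ≤ (A.comap C.subtype).comap (Submodule.inclusion h₂) := fun x hx => hx
  let f := Submodule.mapQ (A.comap B.subtype) (A.comap C.subtype) (Submodule.inclusion h₂) hf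
  let g := Submodule.factor (p := A.comap C.subtype) (p' := B.comap C.subtype) fun x hx => h₁ hx
  refine Module.length_eq_add_of_exact f g ?_ (Submodule.factor_surjective _) ?_
  · rw [← LinearMap.ker_eq_bot, LinearMap.ker_eq_bot']
    intro z hz
    obtain ⟨x, rfl⟩ := Submodule.Quotient.mk_surjective _ z
    rw [Submodule.Quotient.mk_eq_zero]
    exact (Submodule.Quotient.mk_eq_zero (A.comap C.subtype)).1 hz
  · intro z
    obtain ⟨x, rfl⟩ := Submodule.Quotient.mk_surjective _ z
    change Submodule.Quotient.mk x = 0 ↔ _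
    rw [Submodule.Quotient.mk_eq_zero]
    constructor
    · exact fun hx => ⟨Submodule.Quotient.mk ⟨x.1, hx⟩, rfl⟩
    · rintro ⟨w, hw⟩
      obtain ⟨b, rfl⟩ := Submodule.Quotient.mk_surjective _ w
      change (x : V) ∈ B
      have h3 := (Submodule.Quotient.eq (A.comap C.subtype)).1 hw
      have h4 : (b : V) - (x : V) ∈ B := h₁ h3
      simpa using sub_mem b.2 h4

variable [IsDomain O] [IsFractionRing O K] [IsNoetherianRing O] [IsLocalRing O]

omit [IsLocalRing O] in
theorem isLat_of_between {n : ℕ} {A B X : Submodule O (Fin n → K)} (hA : IsLat A) (hB : IsLat B) (h₁ : A ≤ X)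
    (h₂ : X ≤ B) : IsLat X := by
  haveI : Module.Finite O B := Module.Finite.iff_fg.2 hB.1
  refine ⟨Module.Finite.iff_fg.1 (Module.Finite.of_injective (Submodule.inclusion h₂) (Submodule.inclusion_injective h₂)), ?_⟩
  exact eq_top_iff.2 (hA.2 ▸ Submodule.span_mono h₁)

/-- duality preserves lengths -/
theorem lenQ_dlat (hdim : ringKrullDim O = 1) (ω : Submodule O K) (hω0 : ω ≠ ⊥) (hωfg : ω.FG)
    [HasInjectiveDimensionLT (ModuleCat.of O ω) 2] {n : ℕ} {A B : Submodule O (Fin n → K)} (hA : IsLat A)
    (hB : IsLat B) (h : A ≤ B) : lenQ (dlat ω B) (dlat ω A) = lenQ A B := by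
  have h' := dlat_anti ω h
  have hA' := isLat_dlat ω hω0 hωfg hA
  have hB' := isLat_dlat ω hω0 hωfg hB
  refine WithBot.coe_injective ?_
  rw [coe_lenQ h, coe_lenQ h', ← Order.krullDim_orderDual (α := Set.Icc A B)]
  refine Order.krullDim_eq_of_orderIso ?_
  refine
    { toFun := fun X => OrderDual.toDual ⟨dlat ω X.1, ?_, ?_⟩
      invFun := fun X => ⟨dlat ω (OrderDual.ofDual X).1, dlat_anti ω (OrderDual.ofDual X).2.2,
        dlat_anti ω (OrderDual.ofDual X).2.1⟩
      left_inv := fun X => Subtype.ext (dlat_dlat hdim ω hω0 hωfg (isLat_of_between hB' hA' X.2.1 X.2.2))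
      right_inv := fun X => Subtype.ext (dlat_dlat hdim ω hω0 hωfg
        (isLat_of_between hA hB (OrderDual.ofDual X).2.1 (OrderDual.ofDual X).2.2))
      map_rel_iff' := fun {X Y} => ?_ }
  · exact (dlat_dlat hdim ω hω0 hωfg hA).ge.trans (dlat_anti ω X.2.2)
  · exact (dlat_anti ω X.2.1).trans (dlat_dlat hdim ω hω0 hωfg hB).le
  · change dlat ω Y.1 ≤ dlat ω X.1 ↔ X.1 ≤ Y.1
    refine ⟨fun hle => ?_, dlat_anti ω⟩
    have h2 := dlat_anti ω hle
    rwa [dlat_dlat hdim ω hω0 hωfg (isLat_of_between hB' hA' X.2.1 X.2.2),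
      dlat_dlat hdim ω hω0 hωfg (isLat_of_between hB' hA' Y.2.1 Y.2.2)] at h2

omit [IsNoetherianRing O] [IsLocalRing O] in
theorem exists_smul_mem {n : ℕ} {L : Submodule O (Fin n → K)} (hL : Submodule.span K (L : Set (Fin n → K)) = ⊤)
    (x : Fin n → K) : ∃ d : O, d ≠ 0 ∧ d • x ∈ L := by
  have hx : x ∈ Submodule.span K (L : Set (Fin n → K)) := hL ▸ Submodule.mem_top
  induction hx using Submodule.span_induction with
  | mem z hz => exact ⟨1, one_ne_zero, by rwa [one_smul]⟩
  | zero => exact ⟨1, one_ne_zero, by simp⟩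
  | add a b _ _ ha hb =>
    obtain ⟨d, hd, hda⟩ := ha
    obtain ⟨e, he, heb⟩ := hb
    refine ⟨d * e, mul_ne_zero hd he, ?_⟩
    rw [smul_add]
    refine add_mem ?_ ?_
    · rw [mul_comm, mul_smul]; exact L.smul_mem e hda
    · rw [mul_smul]; exact L.smul_mem d heb
  | smul r a _ ha =>
    obtain ⟨d, hd, hda⟩ := ha
    obtain ⟨b, c, hc, rfl⟩ := IsFractionRing.div_surjective O r
    refine ⟨c * d, mul_ne_zero (nonZeroDivisors.ne_zero hc) hd, ?_⟩
    have e : (c * d) • (algebraMap O K b / algebraMap O K c) • a = b • (d • a) := by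
      funext i
      simp only [Pi.smul_apply, smul_eq_mul]
      simp only [Algebra.smul_def, map_mul]
      have := IsFractionRing.to_map_ne_zero_of_mem_nonZeroDivisors (K := K) hc
      field_simp
    rw [e]
    exact L.smul_mem b hda

/-- the dual lattice is the module of homomorphisms -/
noncomputable def dlatHom (ω : Submodule O K) {n : ℕ} (L : Submodule O (Fin n → K)) : dlat ω L →ₗ[O] (L →ₗ[O] ω) where
  toFun y :=
    { toFun := fun x => ⟨dotProduct (x : Fin n → K) y, y.2 x x.2⟩
      map_add' := fun a b => Subtype.ext (by simp [add_dotProduct])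
      map_smul' := fun r a => Subtype.ext (by simp [smul_dotProduct]) }
  map_add' a b := LinearMap.ext fun x => Subtype.ext (by simp [dotProduct_add])
  map_smul' r a := LinearMap.ext fun x => Subtype.ext (by simp [dotProduct_smul])

omit [IsNoetherianRing O] [IsLocalRing O] in
theorem dlatHom_bijective (ω : Submodule O K) {n : ℕ} {L : Submodule O (Fin n → K)}
    (hL : Submodule.span K (L : Set (Fin n → K)) = ⊤) : Function.Bijective (dlatHom ω L) := by
  classical
  refine ⟨fun a b h => Subtype.ext (sub_eq_zero.1 (eq_zero_of_dot hL fun x hx => ?_)), fun f => ?_⟩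
  · rw [dotProduct_sub, sub_eq_zero]
    exact congrArg Subtype.val (LinearMap.congr_fun h ⟨x, hx⟩)
  · choose d hd0 hd using fun i : Fin n => exists_smul_mem hL (Pi.single i 1 : Fin n → K)
    let y : Fin n → K := fun i => (algebraMap O K (d i))⁻¹ * (f ⟨_, hd i⟩ : K)
    have key : ∀ x : L, (f x : K) = dotProduct (x : Fin n → K) y := by
      intro x
      obtain ⟨c, hc0, hc⟩ := exists_smul_mem_stdLat (O := O) (x : Fin n → K)
      choose a ha using mem_stdLat.1 hc
      let D : O := ∏ i, d i
      have hD : D ≠ 0 := Finset.prod_ne_zero_iff.2 fun i _ => hd0 i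
      let q : Fin n → O := fun i => ∏ j ∈ Finset.univ.erase i, d j
      have hq : ∀ i, q i * d i = D := fun i => Finset.prod_erase_mul _ d (Finset.mem_univ i)
      have e : (D * c) • x = ∑ i, (a i * q i) • (⟨_, hd i⟩ : L) := by
        refine Subtype.ext (funext fun j => ?_)
        simp only [Submodule.coe_smul_of_tower, Submodule.coe_sum, Finset.sum_apply]
        rw [Finset.sum_eq_single j (fun i _ hi => by simp [Pi.single_eq_of_ne (Ne.symm hi)]) (by simp)]
        simp only [Pi.smul_apply, Pi.single_eq_same, smul_smul, mul_assoc, hq]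
        rw [mul_smul, mul_comm (a j), mul_smul, ← Algebra.algebraMap_eq_smul_one (a j), ha j]
        rfl
      refine smul_left_injective_aux (mul_ne_zero hD hc0) ?_
      have h1 := congrArg (fun z => (f z : K)) e
      simp only [map_smul, map_sum, Submodule.coe_smul_of_tower, Submodule.coe_sum] at h1
      rw [h1, Algebra.smul_def, dotProduct, Finset.mul_sum]
      refine Finset.sum_congr rfl fun i _ => ?_
      have hne : algebraMap O K (d i) ≠ 0 := (map_ne_zero_iff _ (IsFractionRing.injective O K)).2 (hd0 i)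
      rw [Algebra.smul_def]
      simp only [y]
      rw [← hq i, map_mul, map_mul, map_mul]
      have ha' : algebraMap O K c * (x : Fin n → K) i = algebraMap O K (a i) := by
        rw [ha i, Pi.smul_apply, Algebra.smul_def]
      field_simp
      linear_combination -(algebraMap O K (q i) * (f ⟨_, hd i⟩ : K)) * ha'
    exact ⟨⟨y, fun x hx => key ⟨x, hx⟩ ▸ (f ⟨x, hx⟩).2⟩, LinearMap.ext fun x => Subtype.ext (key x).symm⟩
where
  smul_left_injective_aux {a : O} (ha : a ≠ 0) {x y : K} (h : a • x = a • y) : x = y := by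
    rw [Algebra.smul_def, Algebra.smul_def] at h
    exact mul_left_cancel₀ ((map_ne_zero_iff _ (IsFractionRing.injective O K)).2 ha) h

/-- for Gorenstein rings the ring is a canonical ideal -/
theorem hasInjectiveDimensionLT_one' [LocCoh.IsGorensteinLocalRing O] (hdim : ringKrullDim O = 1) :
    HasInjectiveDimensionLT (ModuleCat.of O (1 : Submodule O K)) 2 := by
  obtain ⟨m, hm⟩ := Gor.Basic.exists_hasInjectiveDimensionLT (A := O)
  have h : HasInjectiveDimensionLT (ModuleCat.of O O) 2 :=
    (Gor.Basic.gorenstein_structure 1 O m hm (by rw [hdim]; rfl)).2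
  let e : O ≃ₗ[O] (1 : Submodule O K) :=
    (LinearEquiv.ofInjective (Algebra.linearMap O K) (IsFractionRing.injective O K)).trans
      (LinearEquiv.ofEq _ _ (Submodule.one_eq_range).symm)
  haveI := h
  exact hasInjectiveDimensionLT_of_iso e.toModuleIso 2

end Groth.Agent.TFLoc
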